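import Mathlib
import Cfsg.Agent.Lib.Helper6.Zas5

set_option autoImplicit false

/-! Zassenhaus groups together with the regular normal subgroup of a point stabiliser. -/

namespace Cfsg.Agent.Lib.Helper19

open MulAction Cfsg.Agent.Lib.Helper6.Zas

structure ZData (G Ω : Type*) [Group G] [MulAction G Ω] (a b : Ω) (K : Subgroup G) : Prop where
  base : Base G Ω
  hab : a ≠ b
  Kfix : ∀ k ∈ K, k • a = a
  Knorm : ∀ g : G, g • a = a → ∀ k ∈ K, g * k * g⁻¹ ∈ K
  Ktrans : ∀ c : Ω, c ≠ a → ∃ k ∈ K, k • b = c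
  Kfree : ∀ k ∈ K, ∀ c : Ω, c ≠ a → k • c = c → k = 1

variable {G Ω : Type*} [Group G] [MulAction G Ω] {a b : Ω} {K : Subgroup G}

theorem ZData.smul_ne (z : ZData G Ω a b K) {g : G} (hg : g • a = a) {c : Ω} (hc : c ≠ a) :
    g • c ≠ a := by
  intro h
  rw [← hg] at h
  exact hc (smul_left_cancel _ h)

theorem ZData.stab (z : ZData G Ω a b K) (g : G) (hg : g • a = a) :
    ∃ k ∈ K, ∃ h ∈ stabilizer G a ⊓ stabilizer G b, g = k * h := by
  obtain ⟨k, hk, hkb⟩ := z.Ktrans (g • b) (z.smul_ne hg z.hab.symm)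
  refine ⟨k, hk, k⁻¹ * g, ⟨?_, ?_⟩, by group⟩
  · show (k⁻¹ * g) • a = a
    rw [mul_smul, hg, inv_smul_eq_iff, z.Kfix k hk]
  · show (k⁻¹ * g) • b = b
    rw [mul_smul, ← hkb, inv_smul_smul]

theorem ZData.free (z : ZData G Ω a b K) (h : G) (hh : h ∈ stabilizer G a ⊓ stabilizer G b)
    (k : G) (hk : k ∈ K) (hk1 : k ≠ 1) (hc : h * k * h⁻¹ = k) : h = 1 := by
  have hkb : k • b ≠ b := fun h0 => hk1 (z.Kfree k hk b z.hab.symm h0)
  have hka : k • b ≠ a := z.smul_ne (z.Kfix k hk) z.hab.symm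
  apply z.base.three h a b (k • b) z.hab hkb.symm hka.symm hh.1 hh.2
  have : h * k = k * h := by
    nth_rewrite 2 [← hc]
    group
  rw [← mul_smul, this, mul_smul, mem_stabilizer_iff.mp hh.2]

theorem ZData.card_K (z : ZData G Ω a b K) [Finite Ω] : Nat.card Ω = Nat.card K + 1 := by
  classical
  have := Fintype.ofFinite Ω
  have hbij : Function.Bijective (fun u : K => (⟨(u : G) • b,
      z.smul_ne (z.Kfix u u.2) z.hab.symm⟩ : {c : Ω // c ≠ a})) := by
    constructor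
    · intro u v huv
      have h1 : (u : G) • b = (v : G) • b := congrArg Subtype.val huv
      have h2 : ((v : G)⁻¹ * u) • b = b := by rw [mul_smul, h1, inv_smul_smul]
      have h3 := z.Kfree _ (K.mul_mem (K.inv_mem v.2) u.2) b z.hab.symm h2
      exact Subtype.ext (inv_mul_eq_one.mp h3).symm
    · rintro ⟨c, hc⟩
      obtain ⟨k, hk, hkb⟩ := z.Ktrans c hc
      exact ⟨⟨k, hk⟩, Subtype.ext hkb⟩
  rw [Nat.card_congr (Equiv.ofBijective _ hbij), Nat.card_eq_fintype_card, Nat.card_eq_fintype_card,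
    Fintype.card_subtype_compl, Fintype.card_subtype_eq]
  have : 0 < Fintype.card Ω := Fintype.card_pos_iff.2 ⟨a⟩
  omega

theorem ZData.inverts (z : ZData G Ω a b K) [Finite G] (t : G)
    (ht : t ∈ stabilizer G a ⊓ stabilizer G b) (ht1 : t ≠ 1) (ht2 : t * t = 1) :
    ∀ k ∈ K, t * k * t⁻¹ = k⁻¹ := by
  apply inverts_of_fpf K t ht2 (fun x hx => z.Knorm t ht.1 x hx)
  intro x hx hc
  by_contra hx1
  apply ht1
  apply z.free t ht x hx hx1
  rw [hc]; group

theorem ZData.K_comm (z : ZData G Ω a b K) [Finite G] (t : G)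
    (ht : t ∈ stabilizer G a ⊓ stabilizer G b) (ht1 : t ≠ 1) (ht2 : t * t = 1) :
    ∀ x ∈ K, ∀ y ∈ K, x * y = y * x := by
  have hinv := z.inverts t ht ht1 ht2
  intro x hx y hy
  have h1 := hinv _ (K.mul_mem (K.inv_mem hy) (K.inv_mem hx))
  have h2 : t * (y⁻¹ * x⁻¹) * t⁻¹ = (t * y⁻¹ * t⁻¹) * (t * x⁻¹ * t⁻¹) := by group
  rw [h2, hinv _ (K.inv_mem hy), hinv _ (K.inv_mem hx)] at h1
  simpa using h1.symm

/-- The kernel of a point stabiliser of a Zassenhaus group (Frobenius' theorem). -/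
theorem exists_zdata_of_zassenhaus (hZ : Cfsg.IsZassenhausGroup G Ω) [Finite G] {a b : Ω}
    (hab : a ≠ b) : ∃ K : Subgroup G, ZData G Ω a b K := by
  have hb := base_of_zassenhaus hZ
  set A : Subgroup G := stabilizer G a with hA
  set F : Subgroup A := (A ⊓ stabilizer G b).subgroupOf A with hF
  have memF : ∀ x : A, x ∈ F ↔ (x : G) • b = b := by
    intro x
    rw [hF, Subgroup.mem_subgroupOf, Subgroup.mem_inf]
    exact ⟨fun h => h.2, fun h => ⟨x.2, h⟩⟩
  have hFbot : F ≠ ⊥ := by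
    intro h
    have h1 := one_lt_card_stab2 hZ hab
    rw [Finite.one_lt_card_iff_nontrivial] at h1
    obtain ⟨x, hx⟩ := exists_ne (1 : ↥(stabilizer G a ⊓ stabilizer G b))
    have h2 : (⟨x, x.2.1⟩ : A) ∈ F := (memF _).2 x.2.2
    rw [h, Subgroup.mem_bot] at h2
    have h3 : (x : G) = 1 := congrArg Subtype.val h2
    exact hx (Subtype.ext h3)
  have hFtop : F ≠ ⊤ := by
    intro h
    obtain ⟨c, hca, hcb⟩ := exists_third hZ a b
    obtain ⟨g, hga, hgb⟩ := hb.two hab hca.symm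
    have h2 : (⟨g, hga⟩ : A) ∈ F := by rw [h]; exact Subgroup.mem_top _
    rw [memF] at h2
    exact hcb (hgb.symm.trans h2)
  have hFrob : Cfsg.IsFrobeniusComplement F := by
    refine ⟨hFbot, hFtop, ?_⟩
    intro g hg
    rw [eq_bot_iff]
    rintro x ⟨hx1, hx2⟩
    rw [Subgroup.mem_bot]
    obtain ⟨y, hy, hyx⟩ := hx2
    have hyb : (y : G) • b = b := (memF y).1 hy
    have hxb : (x : G) • b = b := (memF x).1 hx1
    have hxe : (x : G) = g * y * (g : G)⁻¹ := by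
      rw [← hyx]
      simp [MulAut.conj_apply]
    have hgb : (g : G) • b ≠ b := fun h => hg ((memF g).2 h)
    have hga : (g : G) • a = a := g.2
    have hgba : (g : G) • b ≠ a := by
      intro h
      exact hab (MulAction.injective (g : G) (hga.trans h.symm))
    apply Subtype.ext
    apply hb.three (x : G) a b ((g : G) • b) hab hgb.symm hgba.symm x.2 hxb
    rw [hxe, mul_smul, mul_smul, inv_smul_smul, hyb]
  obtain ⟨N, hNset, hNn, hNc⟩ := Cfsg.Agent.S0035.result F hFrob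
  refine ⟨N.map A.subtype, hb, hab, ?_, ?_, ?_, ?_⟩
  · rintro _ ⟨k, -, rfl⟩
    exact k.2
  · rintro g hg _ ⟨k, hk, rfl⟩
    exact ⟨⟨g, hg⟩ * k * ⟨g, hg⟩⁻¹, hNn.conj_mem k hk ⟨g, hg⟩, rfl⟩
  · intro c hc
    obtain ⟨g, hga, hgb⟩ := hb.two hab hc.symm
    obtain ⟨⟨n, f⟩, hnf⟩ := hNc.2 (⟨g, hga⟩ : A)
    have h1 : (n : A) * (f : A) = ⟨g, hga⟩ := hnf
    refine ⟨(n : A), ⟨n, n.2, rfl⟩, ?_⟩
    have h2 : ((n : A) : G) * ((f : A) : G) = g := congrArg Subtype.val h1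
    have h3 : ((f : A) : G) • b = b := (memF _).1 f.2
    rw [← hgb, ← h2, mul_smul, h3]
  · rintro _ ⟨k, hk, rfl⟩ c hc hkc
    have h1 : k ∈ (N : Set A) := hk
    rw [hNset] at h1
    rcases h1 with h1 | h1
    · rw [h1]; rfl
    · exfalso
      obtain ⟨g, hga, hgb⟩ := hb.two hab hc.symm
      apply h1 ⟨g, hga⟩
      refine ⟨(⟨g, hga⟩ : A)⁻¹ * k * ⟨g, hga⟩, ?_, ?_⟩
      · show _ ∈ F
        rw [memF]
        show (g⁻¹ * (k : G) * g) • b = b
        have hkc' : (k : G) • c = c := hkc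
        rw [mul_smul, mul_smul, hgb, hkc', ← hgb, inv_smul_smul]
      · simp [MulAut.conj_apply, mul_assoc]

end Cfsg.Agent.Lib.Helper19
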