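import Mathlib

set_option autoImplicit false

/-! Elementary facts on pairs of involutions. -/

namespace Cfsg.Agent.Lib.Helper19

variable {G : Type*} [Group G]

theorem invol_inv {s : G} (hs : s * s = 1) : s⁻¹ = s := inv_eq_of_mul_eq_one_left hs

theorem invol_conj_mul_pow {s u : G} (hs : s * s = 1) (hu : u * u = 1) (j : ℕ) :
    s * (s * u) ^ j * s = ((s * u) ^ j)⁻¹ := by
  have h1 : s * (s * u) * s⁻¹ = (s * u)⁻¹ := by
    rw [invol_inv hs, mul_inv_rev, invol_inv hs, invol_inv hu, ← mul_assoc, hs, one_mul]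
  have h2 := conj_pow (a := s) (b := s * u) (i := j)
  rw [h1, invol_inv hs] at h2
  rw [← h2, inv_pow]

/-- if the product of two involutions has even order there is an involution commuting with both -/
theorem exists_central_invol_of_even [Finite G] {s u : G} (hs : s * s = 1) (hu : u * u = 1)
    (he : Even (orderOf (s * u))) :
    ∃ z : G, z ≠ 1 ∧ z * z = 1 ∧ z * s = s * z ∧ z * u = u * z := by
  obtain ⟨k, hk⟩ := he
  have hpos : 0 < orderOf (s * u) := orderOf_pos _
  have hk0 : k ≠ 0 := by omega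
  have hz2 : (s * u) ^ k * (s * u) ^ k = 1 := by
    rw [← pow_add, ← hk, pow_orderOf_eq_one]
  have hzs : (s * u) ^ k * s = s * (s * u) ^ k := by
    have h := invol_conj_mul_pow hs hu k
    rw [invol_inv hz2] at h
    calc (s * u) ^ k * s = s * s * ((s * u) ^ k * s) := by rw [hs, one_mul]
      _ = s * (s * (s * u) ^ k * s) := by simp only [mul_assoc]
      _ = s * (s * u) ^ k := by rw [h]
  refine ⟨(s * u) ^ k, pow_ne_one_of_lt_orderOf hk0 (by omega), hz2, hzs, ?_⟩
  have hc : Commute ((s * u) ^ k) (s * u) := (Commute.refl (s * u)).pow_left k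
  have hu' : u = s * (s * u) := by rw [← mul_assoc, hs, one_mul]
  have h3 : (s * u) ^ k * (s * (s * u)) = (s * (s * u)) * (s * u) ^ k := by
    rw [← mul_assoc, hzs, mul_assoc, hc.eq, ← mul_assoc]
  rw [← hu'] at h3
  exact h3

/-- if the product of two involutions has odd order, some `w` with `w * w = 1` in the group they generate
swaps them. -/
theorem exists_invol_swap_of_odd {s u : G} (hs : s * s = 1) (hu : u * u = 1)
    (ho : Odd (orderOf (s * u))) :
    ∃ w : G, w * w = 1 ∧ w * s * w = u ∧ w * u * w = s ∧ w ∈ Subgroup.closure {s, u} := by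
  obtain ⟨k, hk⟩ := ho
  have hw2 : (s * (s * u) ^ (k + 1)) * (s * (s * u) ^ (k + 1)) = 1 := by
    have h := invol_conj_mul_pow hs hu (k + 1)
    calc (s * (s * u) ^ (k + 1)) * (s * (s * u) ^ (k + 1))
        = (s * (s * u) ^ (k + 1) * s) * (s * u) ^ (k + 1) := by simp only [mul_assoc]
      _ = 1 := by rw [h, inv_mul_cancel]
  have hwsw : (s * (s * u) ^ (k + 1)) * s * (s * (s * u) ^ (k + 1)) = u := by
    calc (s * (s * u) ^ (k + 1)) * s * (s * (s * u) ^ (k + 1))
        = s * (s * u) ^ (k + 1) * (s * s) * (s * u) ^ (k + 1) := by simp only [mul_assoc]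
      _ = s * ((s * u) ^ (k + 1) * (s * u) ^ (k + 1)) := by rw [hs, mul_one, mul_assoc]
      _ = s * ((s * u) ^ (orderOf (s * u)) * (s * u)) := by
          rw [← pow_add, ← pow_succ, hk]; congr 2; omega
      _ = u := by rw [pow_orderOf_eq_one, one_mul, ← mul_assoc, hs, one_mul]
  refine ⟨s * (s * u) ^ (k + 1), hw2, hwsw, ?_, ?_⟩
  · generalize s * (s * u) ^ (k + 1) = w at hw2 hwsw
    rw [← hwsw]
    calc w * (w * s * w) * w = (w * w) * s * (w * w) := by simp only [mul_assoc]
      _ = s := by rw [hw2, one_mul, mul_one]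
  · have h1 : s ∈ Subgroup.closure {s, u} := Subgroup.subset_closure (by simp)
    have h2 : u ∈ Subgroup.closure {s, u} := Subgroup.subset_closure (by simp)
    exact mul_mem h1 (pow_mem (mul_mem h1 h2) _)

end Cfsg.Agent.Lib.Helper19
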