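import Mathlib
import Cfsg.Agent.Lib.Helper19.Dihedral

set_option autoImplicit false

/-! Groups in which the centraliser of every involution is an elementary abelian 2-group
(Brauer-Suzuki-Wall situation): basic facts. -/

namespace Cfsg.Agent.Lib.Helper19

open scoped Pointwise

variable {G : Type*} [Group G]

/-- the standing hypotheses -/
structure BSW (T : Sylow 2 G) : Prop where
  hnc : ¬ IsCyclic (T : Subgroup G)
  hnn : ¬ (T : Subgroup G).Normal
  hC : ∀ t : G, orderOf t = 2 → IsMulCommutative (Subgroup.centralizer ({t} : Set G)) ∧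
    ∀ c ∈ Subgroup.centralizer ({t} : Set G), c ^ 2 = 1

theorem orderOf_two_iff {i : G} : orderOf i = 2 ↔ i ≠ 1 ∧ i * i = 1 := by
  have : Fact (Nat.Prime 2) := ⟨Nat.prime_two⟩
  constructor
  · intro h
    refine ⟨?_, ?_⟩
    · rintro rfl
      rw [orderOf_one] at h; omega
    · have := pow_orderOf_eq_one i
      rwa [h, pow_two] at this
  · rintro ⟨h1, h2⟩
    exact orderOf_eq_prime (by rw [pow_two, h2]) h1

theorem mem_centralizer_singleton {x g : G} : g ∈ Subgroup.centralizer ({x} : Set G) ↔ x * g = g * x := by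
  rw [Subgroup.mem_centralizer_iff]
  exact ⟨fun h => h x rfl, fun h y hy => by rw [Set.mem_singleton_iff.mp hy]; exact h⟩

namespace BSW

variable {T : Sylow 2 G}

theorem sq_of_comm (h : BSW T) {i c : G} (hi1 : i ≠ 1) (hi : i * i = 1) (hc : i * c = c * i) : c * c = 1 := by
  have := (h.hC i (orderOf_two_iff.mpr ⟨hi1, hi⟩)).2 c (mem_centralizer_singleton.mpr hc)
  rwa [pow_two] at this

theorem comm_of_comm (h : BSW T) {i c d : G} (hi1 : i ≠ 1) (hi : i * i = 1) (hc : i * c = c * i)
    (hd : i * d = d * i) : c * d = d * c := by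
  have hcomm := (h.hC i (orderOf_two_iff.mpr ⟨hi1, hi⟩)).1
  have := hcomm.is_comm.comm ⟨c, mem_centralizer_singleton.mpr hc⟩ ⟨d, mem_centralizer_singleton.mpr hd⟩
  exact congrArg Subtype.val this

theorem isPGroup_centralizer (h : BSW T) {i : G} (hi1 : i ≠ 1) (hi : i * i = 1) :
    IsPGroup 2 (Subgroup.centralizer ({i} : Set G)) := by
  intro c
  refine ⟨1, ?_⟩
  have := (h.hC i (orderOf_two_iff.mpr ⟨hi1, hi⟩)).2 c c.2
  ext
  simpa using this

theorem T_ne_bot (h : BSW T) : (T : Subgroup G) ≠ ⊥ := by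
  intro hb
  apply h.hnc
  rw [hb]
  infer_instance

/-- `T` is the centraliser of each of its non-identity elements; in particular it is elementary abelian. -/
theorem exists_central [Finite G] (h : BSW T) :
    ∃ z ∈ (T : Subgroup G), z ≠ 1 ∧ z * z = 1 ∧ Subgroup.centralizer ({z} : Set G) = T := by
  have : Fact (Nat.Prime 2) := ⟨Nat.prime_two⟩
  have hnt : Nontrivial (T : Subgroup G) := (Subgroup.nontrivial_iff_ne_bot _).mpr h.T_ne_bot
  have hcen := T.2.center_nontrivial
  obtain ⟨⟨z, hz⟩, hz1⟩ := exists_ne (1 : Subgroup.center (T : Subgroup G))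
  have hz1' : z ≠ 1 := fun hh => hz1 (Subtype.ext hh)
  -- a power of z is an involution in the centre
  obtain ⟨k, hk⟩ := (IsPGroup.iff_orderOf.mp T.2) z
  have hk0 : k ≠ 0 := by
    rintro rfl
    rw [pow_zero, orderOf_eq_one_iff] at hk
    exact hz1' hk
  obtain ⟨m, rfl⟩ := Nat.exists_eq_succ_of_ne_zero hk0
  have hord : orderOf (z ^ (2 ^ m)) = 2 := by
    rw [orderOf_pow' z (pow_ne_zero _ two_ne_zero), hk, Nat.gcd_eq_right (pow_dvd_pow 2 (Nat.le_succ m)),
      pow_succ, Nat.mul_div_cancel_left _ (pow_pos two_pos m)]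
  have hcz : z ^ (2 ^ m) ∈ Subgroup.center (T : Subgroup G) := pow_mem hz _
  generalize z ^ (2 ^ m) = w at hord hcz
  have hw : orderOf (w : G) = 2 := by rw [Subgroup.orderOf_coe]; exact hord
  obtain ⟨hw1, hw2⟩ := orderOf_two_iff.mp hw
  refine ⟨w, w.2, hw1, hw2, ?_⟩
  apply T.is_maximal' (h.isPGroup_centralizer hw1 hw2)
  intro t ht
  rw [mem_centralizer_singleton]
  have := (Subgroup.mem_center_iff.mp hcz) ⟨t, ht⟩
  exact (congrArg Subtype.val this).symm

theorem T_sq [Finite G] (h : BSW T) {t : G} (ht : t ∈ (T : Subgroup G)) : t * t = 1 := by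
  obtain ⟨z, -, hz1, hz2, hzT⟩ := h.exists_central
  rw [← hzT, mem_centralizer_singleton] at ht
  exact h.sq_of_comm hz1 hz2 ht

theorem T_comm [Finite G] (h : BSW T) {s t : G} (hs : s ∈ (T : Subgroup G)) (ht : t ∈ (T : Subgroup G)) :
    s * t = t * s := by
  obtain ⟨z, -, hz1, hz2, hzT⟩ := h.exists_central
  rw [← hzT, mem_centralizer_singleton] at hs ht
  exact h.comm_of_comm hz1 hz2 hs ht

theorem centralizer_eq [Finite G] (h : BSW T) {t : G} (ht : t ∈ (T : Subgroup G)) (ht1 : t ≠ 1) :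
    Subgroup.centralizer ({t} : Set G) = T := by
  apply T.is_maximal' (h.isPGroup_centralizer ht1 (h.T_sq ht))
  intro s hs
  rw [mem_centralizer_singleton]
  exact h.T_comm ht hs

theorem mem_T_of_comm [Finite G] (h : BSW T) {t c : G} (ht : t ∈ (T : Subgroup G)) (ht1 : t ≠ 1)
    (hc : t * c = c * t) : c ∈ (T : Subgroup G) := by
  rw [← h.centralizer_eq ht ht1, mem_centralizer_singleton]; exact hc

/-- (F4) an element conjugating a non-identity element of `T` into `T` normalises `T`. -/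
theorem mem_normalizer_of_conj [Finite G] (h : BSW T) {t g : G} (ht : t ∈ (T : Subgroup G)) (ht1 : t ≠ 1)
    (hg : g * t * g⁻¹ ∈ (T : Subgroup G)) : g ∈ Subgroup.normalizer ((T : Subgroup G) : Set G) := by
  have hne : g * t * g⁻¹ ≠ 1 := by
    intro hh
    apply ht1
    have : t = g⁻¹ * (g * t * g⁻¹) * g := by group
    rw [this, hh]; group
  have key : ∀ s ∈ (T : Subgroup G), g * s * g⁻¹ ∈ (T : Subgroup G) := by
    intro s hs
    apply h.mem_T_of_comm hg hne
    have := h.T_comm ht hs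
    calc g * t * g⁻¹ * (g * s * g⁻¹) = g * (t * s) * g⁻¹ := by group
      _ = g * (s * t) * g⁻¹ := by rw [this]
      _ = g * s * g⁻¹ * (g * t * g⁻¹) := by group
  -- the conjugation map is injective from T to T so onto
  rw [Subgroup.mem_normalizer_iff]
  intro s
  refine ⟨key s, fun hs => ?_⟩
  let φ : ↥(T : Subgroup G) → ↥(T : Subgroup G) := fun s => ⟨g * (s : G) * g⁻¹, key s s.2⟩
  have hφ : Function.Injective φ := by
    intro a b hab
    have h1 : g * (a : G) * g⁻¹ = g * (b : G) * g⁻¹ := congrArg Subtype.val hab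
    have h2 : (a : G) = b := by
      have := congrArg (fun x => g⁻¹ * x * g) h1
      simpa [mul_assoc] using this
    exact Subtype.ext h2
  obtain ⟨a, ha⟩ := (Finite.injective_iff_surjective.mp hφ) ⟨g * s * g⁻¹, hs⟩
  have h1 : g * (a : G) * g⁻¹ = g * s * g⁻¹ := congrArg Subtype.val ha
  have h2 : (a : G) = s := by
    have := congrArg (fun x => g⁻¹ * x * g) h1
    simpa [mul_assoc] using this
  rw [← h2]; exact a.2

/-- (F5) elements of `N(T)` of square one lie in `T`. -/
theorem mem_T_of_sq [Finite G] (_h : BSW T) {i : G} (hi : i * i = 1)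
    (hiH : i ∈ Subgroup.normalizer ((T : Subgroup G) : Set G)) : i ∈ (T : Subgroup G) := by
  have : Fact (Nat.Prime 2) := ⟨Nat.prime_two⟩
  have h1 : IsPGroup 2 (Subgroup.zpowers i) := by
    rw [IsPGroup.iff_card, Nat.card_zpowers]
    have : orderOf i ∣ 2 := orderOf_dvd_of_pow_eq_one (by rw [pow_two, hi])
    rcases (Nat.dvd_prime Nat.prime_two).mp this with h | h
    · exact ⟨0, by simp [h]⟩
    · exact ⟨1, by simp [h]⟩
  have h2 : IsPGroup 2 ((T : Subgroup G) ⊔ Subgroup.zpowers i : Subgroup G) :=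
    IsPGroup.to_sup_of_normal_left' T.2 h1 (by rw [Subgroup.zpowers_le]; exact hiH)
  have h3 := T.is_maximal' h2 le_sup_left
  rw [← h3]
  exact (le_sup_right : Subgroup.zpowers i ≤ _) (Subgroup.mem_zpowers i)

/-- two non-commuting involutions have a product of odd order -/
theorem odd_of_not_comm [Finite G] (h : BSW T) {i j : G} (hi : i * i = 1) (hj : j * j = 1)
    (hij : i * j ≠ j * i) : Odd (orderOf (i * j)) := by
  by_contra hodd
  rw [Nat.not_odd_iff_even] at hodd
  obtain ⟨z, hz1, hz, hzi, hzj⟩ := exists_central_invol_of_even hi hj hodd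
  exact hij (h.comm_of_comm hz1 hz hzi hzj)

theorem T_conj_mem (_h : BSW T) {n t : G} (hn : n ∈ Subgroup.normalizer ((T : Subgroup G) : Set G))
    (ht : t ∈ (T : Subgroup G)) : n * t * n⁻¹ ∈ (T : Subgroup G) :=
  (Subgroup.mem_normalizer_iff.mp hn t).mp ht

theorem T_le_normalizer : (T : Subgroup G) ≤ Subgroup.normalizer ((T : Subgroup G) : Set G) :=
  Subgroup.le_normalizer

/-- for `g ∉ N(T)` there is an involution `w` with `w N(T) = g N(T)`. -/
theorem exists_invol_coset [Finite G] (h : BSW T) {g : G}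
    (hg : g ∉ Subgroup.normalizer ((T : Subgroup G) : Set G)) :
    ∃ w : G, w ≠ 1 ∧ w * w = 1 ∧ w ∉ Subgroup.normalizer ((T : Subgroup G) : Set G) ∧
      g⁻¹ * w ∈ Subgroup.normalizer ((T : Subgroup G) : Set G) := by
  obtain ⟨t, ht, ht1, ht2, -⟩ := h.exists_central
  have ht'2 : (g * t * g⁻¹) * (g * t * g⁻¹) = 1 := by
    calc (g * t * g⁻¹) * (g * t * g⁻¹) = g * (t * t) * g⁻¹ := by group
      _ = 1 := by rw [ht2]; group
  have hnc : t * (g * t * g⁻¹) ≠ (g * t * g⁻¹) * t := by
    intro hc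
    exact hg (h.mem_normalizer_of_conj ht ht1 (h.mem_T_of_comm ht ht1 hc))
  obtain ⟨w, hw2, hw1, -, -⟩ := exists_invol_swap_of_odd ht2 ht'2 (h.odd_of_not_comm ht2 ht'2 hnc)
  have hwinv := invol_inv hw2
  have hmem : g⁻¹ * w ∈ Subgroup.normalizer ((T : Subgroup G) : Set G) := by
    apply h.mem_normalizer_of_conj ht ht1
    have : g⁻¹ * w * t * (g⁻¹ * w)⁻¹ = g⁻¹ * (w * t * w) * g := by
      rw [mul_inv_rev, hwinv, inv_inv]; simp only [mul_assoc]
    rw [this, hw1]
    have : g⁻¹ * (g * t * g⁻¹) * g = t := by group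
    rw [this]; exact ht
  have hwH : w ∉ Subgroup.normalizer ((T : Subgroup G) : Set G) := by
    intro hw
    apply hg
    have h1 := mul_mem hw (inv_mem hmem)
    have h2 : w * (g⁻¹ * w)⁻¹ = g := by group
    rwa [h2] at h1
  refine ⟨w, ?_, hw2, hwH, hmem⟩
  rintro rfl
  exact hwH (one_mem _)

end BSW

end Cfsg.Agent.Lib.Helper19
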