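import Mathlib
import Cfsg.Agent.Lib.Helper19.BSW
import Cfsg.Agent.S1124

set_option autoImplicit false

/-! Brauer-Suzuki-Wall situation: the two-point stabilisers `D = H ∩ gHg⁻¹`, `H = N(T)`. -/

namespace Cfsg.Agent.Lib.Helper19

open scoped Pointwise

variable {G : Type*} [Group G]

/-- `H = N_G(T)` -/
abbrev Hn (T : Sylow 2 G) : Subgroup G := Subgroup.normalizer ((T : Subgroup G) : Set G)

/-- `D = H ∩ gHg⁻¹` -/
abbrev Dn (T : Sylow 2 G) (g : G) : Subgroup G := Hn T ⊓ (Hn T).map (MulAut.conj g).toMonoidHom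

theorem mem_Dn_iff {T : Sylow 2 G} {g d : G} : d ∈ Dn T g ↔ d ∈ Hn T ∧ g⁻¹ * d * g ∈ Hn T := by
  rw [Subgroup.mem_inf, Subgroup.mem_map]
  refine and_congr_right (fun _ => ?_)
  constructor
  · rintro ⟨x, hx, rfl⟩
    have : g⁻¹ * ((MulAut.conj g).toMonoidHom x) * g = x := by
      simp [MulAut.conj_apply, mul_assoc]
    rw [this]; exact hx
  · intro h
    exact ⟨g⁻¹ * d * g, h, by simp [MulAut.conj_apply, mul_assoc]⟩

theorem Dn_congr {T : Sylow 2 G} {g w : G} (h : g⁻¹ * w ∈ Hn T) : Dn T g = Dn T w := by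
  ext d
  rw [mem_Dn_iff, mem_Dn_iff]
  refine and_congr_right (fun _ => ?_)
  have e : w⁻¹ * d * w = (g⁻¹ * w)⁻¹ * (g⁻¹ * d * g) * (g⁻¹ * w) := by group
  constructor
  · intro h1
    rw [e]; exact mul_mem (mul_mem (inv_mem h) h1) h
  · intro h1
    have e2 : g⁻¹ * d * g = (g⁻¹ * w) * (w⁻¹ * d * w) * (g⁻¹ * w)⁻¹ := by group
    rw [e2]; exact mul_mem (mul_mem h h1) (inv_mem h)

namespace BSW

variable {T : Sylow 2 G} [Finite G]

theorem D_inf_T (h : BSW T) {g d : G} (hg : g ∉ Hn T) (hd : d ∈ Dn T g) (hdT : d ∈ (T : Subgroup G)) :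
    d = 1 := by
  by_contra hd1
  obtain ⟨-, hd2⟩ := mem_Dn_iff.mp hd
  have h1 : (g⁻¹ * d * g) * (g⁻¹ * d * g) = 1 := by
    calc (g⁻¹ * d * g) * (g⁻¹ * d * g) = g⁻¹ * (d * d) * g := by group
      _ = 1 := by rw [h.T_sq hdT]; group
  have h2 := h.mem_T_of_sq h1 hd2
  have h3 : g⁻¹ ∈ Hn T := by
    apply h.mem_normalizer_of_conj hdT hd1
    rwa [inv_inv]
  exact hg (by simpa using inv_mem h3)

theorem D_sq (h : BSW T) {g d : G} (hg : g ∉ Hn T) (hd : d ∈ Dn T g) (hd2 : d * d = 1) : d = 1 :=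
  h.D_inf_T hg hd (h.mem_T_of_sq hd2 (mem_Dn_iff.mp hd).1)

theorem D_odd (h : BSW T) {g : G} (hg : g ∉ Hn T) : Odd (Nat.card (Dn T g)) := by
  by_contra hodd
  rw [Nat.not_odd_iff_even] at hodd
  have : Fact (Nat.Prime 2) := ⟨Nat.prime_two⟩
  obtain ⟨z, hz⟩ := exists_prime_orderOf_dvd_card' (G := ↥(Dn T g)) 2 (even_iff_two_dvd.mp hodd)
  have hz' : orderOf (z : G) = 2 := by rw [Subgroup.orderOf_coe]; exact hz
  obtain ⟨hz1, hz2⟩ := orderOf_two_iff.mp hz'
  exact hz1 (h.D_sq hg z.2 hz2)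

theorem D_conj_u (_h : BSW T) {u d : G} (hu : u * u = 1) (hd : d ∈ Dn T u) : u * d * u⁻¹ ∈ Dn T u := by
  obtain ⟨h1, h2⟩ := mem_Dn_iff.mp hd
  have huinv := invol_inv hu
  rw [mem_Dn_iff]
  refine ⟨?_, ?_⟩
  · rw [huinv] at h2 ⊢; exact h2
  · have : u⁻¹ * (u * d * u⁻¹) * u = d := by group
    rw [this]; exact h1

/-- an involution `u ∉ H` inverts `D = H ∩ uHu⁻¹` -/
theorem D_inverted (h : BSW T) {u d : G} (hu1 : u ≠ 1) (hu : u * u = 1) (huH : u ∉ Hn T)
    (hd : d ∈ Dn T u) : u * d * u⁻¹ = d⁻¹ := by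
  have hS := (Cfsg.Agent.S1124.result u (orderOf_two_iff.mpr ⟨hu1, hu⟩) (Dn T u) (h.D_odd huH)
    (fun x hx => h.D_conj_u hu hx)).1 d hd
  obtain ⟨⟨y, z⟩, ⟨hy, hz, hyz⟩, -⟩ := hS
  simp only at hy hz hyz
  obtain ⟨hyD, hyu⟩ := Subgroup.mem_inf.mp hy
  have hy1 : y = 1 := by
    apply h.D_sq huH hyD
    exact h.sq_of_comm hu1 hu (mem_centralizer_singleton.mp hyu)
  rw [hy1, one_mul] at hyz
  rw [hyz]
  exact hz.2

theorem D_comm (h : BSW T) {u d e : G} (hu1 : u ≠ 1) (hu : u * u = 1) (huH : u ∉ Hn T)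
    (hd : d ∈ Dn T u) (he : e ∈ Dn T u) : d * e = e * d := by
  have h1 := h.D_inverted hu1 hu huH hd
  have h2 := h.D_inverted hu1 hu huH he
  have h3 := h.D_inverted hu1 hu huH (mul_mem hd he)
  have h4 : u * (d * e) * u⁻¹ = (u * d * u⁻¹) * (u * e * u⁻¹) := by group
  rw [h4, h1, h2] at h3
  have h5 : (d⁻¹ * e⁻¹)⁻¹ = ((d * e)⁻¹)⁻¹ := by rw [h3]
  simpa using h5.symm

/-- `D` is transitive on `T ∖ 1` -/
theorem D_trans (h : BSW T) {u s t : G} (hu : u * u = 1) (huH : u ∉ Hn T)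
    (hs : s ∈ (T : Subgroup G)) (hs1 : s ≠ 1) (ht : t ∈ (T : Subgroup G)) (ht1 : t ≠ 1) :
    ∃ d ∈ Dn T u, d * s * d⁻¹ = t := by
  have huinv := invol_inv hu
  have hs2 := h.T_sq hs
  have ht2 := h.T_sq ht
  have hs₁2 : (u * s * u⁻¹) * (u * s * u⁻¹) = 1 := by
    calc (u * s * u⁻¹) * (u * s * u⁻¹) = u * (s * s) * u⁻¹ := by group
      _ = 1 := by rw [hs2]; group
  have hnc : (u * s * u⁻¹) * t ≠ t * (u * s * u⁻¹) := by
    intro hc
    exact huH (h.mem_normalizer_of_conj hs hs1 (h.mem_T_of_comm ht ht1 hc.symm))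
  obtain ⟨w, hw2, hw1, -, -⟩ := exists_invol_swap_of_odd hs₁2 ht2 (h.odd_of_not_comm hs₁2 ht2 hnc)
  have hwinv := invol_inv hw2
  have hconj : (w * u) * s * (w * u)⁻¹ = t := by
    rw [← hw1, mul_inv_rev, hwinv]; simp only [mul_assoc]
  have hH : w * u ∈ Hn T := h.mem_normalizer_of_conj hs hs1 (by rw [hconj]; exact ht)
  refine ⟨w * u, mem_Dn_iff.mpr ⟨hH, ?_⟩, hconj⟩
  have : u⁻¹ * (w * u) * u = (w * u)⁻¹ := by
    rw [mul_inv_rev, hwinv, huinv]
    calc u * (w * u) * u = u * w * (u * u) := by simp only [mul_assoc]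
      _ = u * w := by rw [hu, mul_one]
  rw [this]; exact inv_mem hH

/-- `H = D T` -/
theorem H_eq_DT (h : BSW T) {u n : G} (hu : u * u = 1) (huH : u ∉ Hn T) (hn : n ∈ Hn T) :
    ∃ d ∈ Dn T u, ∃ t ∈ (T : Subgroup G), n = d * t := by
  obtain ⟨s, hs, hs1, -, -⟩ := h.exists_central
  have h1 : n * s * n⁻¹ ∈ (T : Subgroup G) := h.T_conj_mem hn hs
  have h2 : n * s * n⁻¹ ≠ 1 := by
    intro hh
    apply hs1
    have : s = n⁻¹ * (n * s * n⁻¹) * n := by group
    rw [this, hh]; group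
  obtain ⟨d, hd, hds⟩ := h.D_trans hu huH hs hs1 h1 h2
  refine ⟨d, hd, d⁻¹ * n, ?_, by group⟩
  apply h.mem_T_of_comm hs hs1
  calc s * (d⁻¹ * n) = d⁻¹ * (d * s * d⁻¹) * n := by group
    _ = d⁻¹ * (n * s * n⁻¹) * n := by rw [hds]
    _ = d⁻¹ * n * s := by group

theorem card_D (h : BSW T) {u : G} (hu : u * u = 1) (huH : u ∉ Hn T) :
    Nat.card (Dn T u) + 1 = Nat.card (T : Subgroup G) := by
  classical
  obtain ⟨s, hs, hs1, -, -⟩ := h.exists_central
  let f : Option (Dn T u) → (T : Subgroup G) := fun o =>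
    o.elim 1 (fun d => ⟨(d : G) * s * (d : G)⁻¹, h.T_conj_mem (mem_Dn_iff.mp d.2).1 hs⟩)
  have hne : ∀ d : G, d * s * d⁻¹ ≠ 1 := by
    intro d hh
    apply hs1
    have : s = d⁻¹ * (d * s * d⁻¹) * d := by group
    rw [this, hh]; group
  have hf : Function.Bijective f := by
    constructor
    · intro x y hxy
      cases x with
      | none =>
        cases y with
        | none => rfl
        | some y => exact absurd (congrArg Subtype.val hxy).symm (hne _)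
      | some x =>
        cases y with
        | none => exact absurd (congrArg Subtype.val hxy) (hne _)
        | some y =>
          have h1 : (x : G) * s * (x : G)⁻¹ = (y : G) * s * (y : G)⁻¹ := congrArg Subtype.val hxy
          have h2 : (y : G)⁻¹ * (x : G) ∈ (T : Subgroup G) := by
            apply h.mem_T_of_comm hs hs1
            calc s * ((y : G)⁻¹ * (x : G)) = (y : G)⁻¹ * ((y : G) * s * (y : G)⁻¹) * (x : G) := by group
              _ = (y : G)⁻¹ * ((x : G) * s * (x : G)⁻¹) * (x : G) := by rw [h1]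
              _ = (y : G)⁻¹ * (x : G) * s := by group
          have h3 := h.D_inf_T huH (mul_mem (inv_mem y.2) x.2) h2
          exact congrArg some (Subtype.ext (inv_mul_eq_one.mp h3).symm)
    · intro t
      by_cases ht : (t : G) = 1
      · exact ⟨none, Subtype.ext ht.symm⟩
      · obtain ⟨d, hd, hds⟩ := h.D_trans hu huH hs hs1 t.2 ht
        exact ⟨some ⟨d, hd⟩, Subtype.ext hds⟩
  rw [← Nat.card_congr (Equiv.ofBijective f hf), Finite.card_option]

theorem three_le_card_T (h : BSW T) : 3 ≤ Nat.card (T : Subgroup G) := by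
  by_contra hlt
  have hpos : 0 < Nat.card (T : Subgroup G) := Nat.card_pos
  have : Nat.card (T : Subgroup G) = 1 ∨ Nat.card (T : Subgroup G) = 2 := by omega
  rcases this with h1 | h2
  · apply h.hnc
    have : Subsingleton (T : Subgroup G) := (Nat.card_eq_one_iff_unique.mp h1).1
    infer_instance
  · have : Fact (Nat.Prime 2) := ⟨Nat.prime_two⟩
    exact h.hnc (isCyclic_of_prime_card h2)

theorem exists_D_ne_one (h : BSW T) {u : G} (hu : u * u = 1) (huH : u ∉ Hn T) :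
    ∃ d ∈ Dn T u, d ≠ 1 := by
  have h1 := h.card_D hu huH
  have h2 := h.three_le_card_T
  have h3 : 1 < Nat.card (Dn T u) := by omega
  have hnt : Nontrivial ↥(Dn T u) := Finite.one_lt_card_iff_nontrivial.mp h3
  obtain ⟨d, hd⟩ := exists_ne (1 : ↥(Dn T u))
  exact ⟨d, d.2, fun hh => hd (Subtype.ext hh)⟩

/-- an element of `T` commuting with a non-identity element of `D` is trivial -/
theorem T_comm_D (h : BSW T) {g d t : G} (hg : g ∉ Hn T) (hd : d ∈ Dn T g) (hd1 : d ≠ 1)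
    (ht : t ∈ (T : Subgroup G)) (hc : t * d = d * t) : t = 1 := by
  by_contra ht1
  exact hd1 (h.D_inf_T hg hd (h.mem_T_of_comm ht ht1 hc))

/-- `C_H(d) ≤ D` for `1 ≠ d ∈ D` -/
theorem centralizer_D (h : BSW T) {u d n : G} (hu1 : u ≠ 1) (hu : u * u = 1) (huH : u ∉ Hn T)
    (hd : d ∈ Dn T u) (hd1 : d ≠ 1) (hn : n ∈ Hn T) (hc : n * d = d * n) : n ∈ Dn T u := by
  obtain ⟨e, he, t, ht, rfl⟩ := h.H_eq_DT hu huH hn
  have hed := h.D_comm hu1 hu huH he hd
  have h1 : t * d = d * t := by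
    have : e * (t * d) = e * (d * t) := by
      calc e * (t * d) = e * t * d := by rw [mul_assoc]
        _ = d * (e * t) := hc
        _ = (d * e) * t := by rw [mul_assoc]
        _ = (e * d) * t := by rw [hed]
        _ = e * (d * t) := by rw [mul_assoc]
    exact mul_left_cancel this
  rw [h.T_comm_D huH hd hd1 ht h1, mul_one]; exact he

/-- `N_H(D) = D` -/
theorem normalizer_D (h : BSW T) {u n : G} (hu : u * u = 1) (huH : u ∉ Hn T)
    (hn : n ∈ Hn T) (hnD : ∀ d ∈ Dn T u, n * d * n⁻¹ ∈ Dn T u) : n ∈ Dn T u := by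
  obtain ⟨e, he, t, ht, rfl⟩ := h.H_eq_DT hu huH hn
  obtain ⟨d, hd, hd1⟩ := h.exists_D_ne_one hu huH
  have h1 : t * d * t⁻¹ ∈ Dn T u := by
    have := mul_mem (mul_mem (inv_mem he) (hnD d hd)) he
    have e2 : e⁻¹ * (e * t * d * (e * t)⁻¹) * e = t * d * t⁻¹ := by group
    rwa [e2] at this
  have h2 : t * d * t⁻¹ * d⁻¹ ∈ Dn T u := mul_mem h1 (inv_mem hd)
  have h3 : t * d * t⁻¹ * d⁻¹ ∈ (T : Subgroup G) := by
    have : t * d * t⁻¹ * d⁻¹ = t * (d * t⁻¹ * d⁻¹) := by group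
    rw [this]
    exact mul_mem ht (h.T_conj_mem (mem_Dn_iff.mp hd).1 (inv_mem ht))
  have h4 := h.D_inf_T huH h2 h3
  have h5 : t * d = d * t := by
    calc t * d = (t * d * t⁻¹ * d⁻¹) * (d * t) := by group
      _ = d * t := by rw [h4, one_mul]
  rw [h.T_comm_D huH hd hd1 ht h5, mul_one]; exact he

end BSW

end Cfsg.Agent.Lib.Helper19
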