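import Mathlib
import Cfsg.Agent.Lib.Helper19.BSW2

set_option autoImplicit false

/-! Brauer-Suzuki-Wall situation: fixed points of `D`, sharp triple transitivity. -/

namespace Cfsg.Agent.Lib.Helper19

open scoped Pointwise

variable {G : Type*} [Group G]

namespace BSW

variable {T : Sylow 2 G} [Finite G]

/-- two-point stabilisers all have the same order, so inclusion forces equality -/
theorem Dn_eq_of_le (h : BSW T) {u i : G} (hu : u * u = 1) (huH : u ∉ Hn T)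
    (hi : i * i = 1) (hiH : i ∉ Hn T) (hle : Dn T u ≤ Dn T i) : Dn T u = Dn T i := by
  apply Subgroup.eq_of_le_of_card_ge hle
  have h1 := h.card_D hu huH
  have h2 := h.card_D hi hiH
  omega

/-- if `D` fixes the coset `gH ≠ H` then some involution of `gH` inverts `D` -/
theorem exists_invol_inverting (h : BSW T) {u g : G} (hu : u * u = 1) (huH : u ∉ Hn T)
    (hg : g ∉ Hn T) (hfix : ∀ d ∈ Dn T u, g⁻¹ * d * g ∈ Hn T) :
    ∃ i : G, i ≠ 1 ∧ i * i = 1 ∧ i ∉ Hn T ∧ g⁻¹ * i ∈ Hn T ∧ Dn T u = Dn T i ∧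
      ∀ d ∈ Dn T u, i * d * i⁻¹ = d⁻¹ := by
  obtain ⟨i, hi1, hi2, hiH, hgi⟩ := h.exists_invol_coset hg
  have hle : Dn T u ≤ Dn T i := by
    rw [← Dn_congr hgi]
    intro d hd
    exact mem_Dn_iff.mpr ⟨(mem_Dn_iff.mp hd).1, hfix d hd⟩
  have heq := h.Dn_eq_of_le hu huH hi2 hiH hle
  refine ⟨i, hi1, hi2, hiH, hgi, heq, fun d hd => ?_⟩
  exact h.D_inverted hi1 hi2 hiH (heq ▸ hd)

/-- `Fix(D) = {H, uH}` -/
theorem fix_D (h : BSW T) {u g : G} (hu1 : u ≠ 1) (hu : u * u = 1) (huH : u ∉ Hn T)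
    (hg : g ∉ Hn T) (hfix : ∀ d ∈ Dn T u, g⁻¹ * d * g ∈ Hn T) : g⁻¹ * u ∈ Hn T := by
  obtain ⟨i, hi1, hi2, hiH, hgi, -, hinv⟩ := h.exists_invol_inverting hu huH hg hfix
  have huinv := invol_inv hu
  have hiinv := invol_inv hi2
  -- `a = i * u` centralises `D`
  have hcent : ∀ d ∈ Dn T u, (i * u) * d * (i * u)⁻¹ = d := by
    intro d hd
    have h1 := h.D_inverted hu1 hu huH hd
    have h2 := hinv d⁻¹ (inv_mem hd)
    calc (i * u) * d * (i * u)⁻¹ = i * (u * d * u⁻¹) * i⁻¹ := by group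
      _ = d := by rw [h1, h2, inv_inv]
  have haH : i * u ∈ Hn T := by
    by_contra haH
    have hfix2 : ∀ d ∈ Dn T u, (i * u)⁻¹ * d * (i * u) ∈ Hn T := by
      intro d hd
      have h1 := hcent d hd
      have h2 : (i * u)⁻¹ * d * (i * u) = d := by
        nth_rewrite 1 [← h1]; group
      rw [h2]; exact (mem_Dn_iff.mp hd).1
    obtain ⟨j, hj1, hj2, hjH, haj, -, hinvj⟩ := h.exists_invol_inverting hu huH haH hfix2
    have hjinv := invol_inv hj2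
    -- `n = (i*u)⁻¹ * j ∈ H` inverts `D`
    have hn : ∀ d ∈ Dn T u, ((i * u)⁻¹ * j) * d * ((i * u)⁻¹ * j)⁻¹ = d⁻¹ := by
      intro d hd
      have h1 := hinvj d hd
      have h2 := hcent d⁻¹ (inv_mem hd)
      calc ((i * u)⁻¹ * j) * d * ((i * u)⁻¹ * j)⁻¹ = (i * u)⁻¹ * (j * d * j⁻¹) * (i * u) := by group
        _ = (i * u)⁻¹ * d⁻¹ * (i * u) := by rw [h1]
        _ = (i * u)⁻¹ * ((i * u) * d⁻¹ * (i * u)⁻¹) * (i * u) := by rw [h2]
        _ = d⁻¹ := by group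
    have hnD : (i * u)⁻¹ * j ∈ Dn T u :=
      h.normalizer_D hu huH haj (fun d hd => by rw [hn d hd]; exact inv_mem hd)
    obtain ⟨d, hd, hd1⟩ := h.exists_D_ne_one hu huH
    apply hd1
    apply h.D_sq huH hd
    have h1 := hn d hd
    have h2 := h.D_comm hu1 hu huH hnD hd
    rw [h2, mul_assoc, mul_inv_cancel, mul_one] at h1
    nth_rewrite 1 [h1]; exact inv_mul_cancel d
  have : g⁻¹ * u = (g⁻¹ * i) * (i * u) := by
    calc g⁻¹ * u = g⁻¹ * (i * i) * u := by rw [hi2, mul_one]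
      _ = (g⁻¹ * i) * (i * u) := by simp only [mul_assoc]
  rw [this]; exact mul_mem hgi haH

/-- `Fix(d) = {H, uH}` for every `1 ≠ d ∈ D` -/
theorem fix_elt (h : BSW T) {u g d : G} (hu1 : u ≠ 1) (hu : u * u = 1) (huH : u ∉ Hn T)
    (hg : g ∉ Hn T) (hd : d ∈ Dn T u) (hd1 : d ≠ 1) (hfix : g⁻¹ * d * g ∈ Hn T) :
    g⁻¹ * u ∈ Hn T := by
  obtain ⟨i, hi1, hi2, hiH, hgi⟩ := h.exists_invol_coset hg
  have hdi : d ∈ Dn T i := by
    rw [← Dn_congr hgi]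
    exact mem_Dn_iff.mpr ⟨(mem_Dn_iff.mp hd).1, hfix⟩
  have hle : Dn T i ≤ Dn T u := by
    intro e he
    exact h.centralizer_D hu1 hu huH hd hd1 (mem_Dn_iff.mp he).1 (h.D_comm hi1 hi2 hiH he hdi)
  have heq := h.Dn_eq_of_le hi2 hiH hu huH hle
  apply h.fix_D hu1 hu huH hg
  intro e he
  have : e ∈ Dn T g := by rw [Dn_congr hgi, heq]; exact he
  exact (mem_Dn_iff.mp this).2

/-- `N_G(D) ≤ D ⟨u⟩` -/
theorem normalizer_D_full (h : BSW T) {u n : G} (hu1 : u ≠ 1) (hu : u * u = 1) (huH : u ∉ Hn T)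
    (hn : ∀ d, d ∈ Dn T u ↔ n * d * n⁻¹ ∈ Dn T u) : n ∈ Dn T u ∨ n⁻¹ * u ∈ Dn T u := by
  have hn' : ∀ d ∈ Dn T u, n⁻¹ * d * n ∈ Dn T u := by
    intro d hd
    rw [hn]
    have : n * (n⁻¹ * d * n) * n⁻¹ = d := by group
    rw [this]; exact hd
  by_cases hnH : n ∈ Hn T
  · left
    exact h.normalizer_D hu huH hnH (fun d hd => (hn d).mp hd)
  · right
    have h1 := h.fix_D hu1 hu huH hnH (fun d hd => (mem_Dn_iff.mp (hn' d hd)).1)
    apply h.normalizer_D hu huH h1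
    intro d hd
    have h2 := hn' _ (h.D_conj_u hu hd)
    have : n⁻¹ * u * d * (n⁻¹ * u)⁻¹ = n⁻¹ * (u * d * u⁻¹) * n := by group
    rw [this]; exact h2

theorem exists_invol_not_mem (h : BSW T) : ∃ u : G, u ≠ 1 ∧ u * u = 1 ∧ u ∉ Hn T := by
  have : ∃ g : G, g ∉ Hn T := by
    by_contra hall
    push Not at hall
    apply h.hnn
    rw [← Subgroup.normalizer_eq_top_iff]
    exact eq_top_iff.mpr (fun g _ => hall g)
  obtain ⟨g, hg⟩ := this
  obtain ⟨w, hw1, hw2, hwH, -⟩ := h.exists_invol_coset hg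
  exact ⟨w, hw1, hw2, hwH⟩

/-- `T` is transitive on the cosets different from `H` -/
theorem T_trans (h : BSW T) {u g : G} (hu1 : u ≠ 1) (hu : u * u = 1) (huH : u ∉ Hn T)
    (hg : g ∉ Hn T) : ∃ t ∈ (T : Subgroup G), g⁻¹ * (t * u) ∈ Hn T := by
  obtain ⟨i, hi1, hi2, hiH, hgi⟩ := h.exists_invol_coset hg
  obtain ⟨e, he, he1⟩ := h.exists_D_ne_one hi2 hiH
  rw [← Dn_congr hgi] at he
  obtain ⟨heH, heg⟩ := mem_Dn_iff.mp he
  obtain ⟨d, hd, t₀, ht₀, hedt⟩ := h.H_eq_DT hu huH heH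
  have hd1 : d ≠ 1 := by
    rintro rfl
    rw [one_mul] at hedt
    exact he1 (h.D_inf_T hg he (hedt ▸ ht₀))
  have hdH := (mem_Dn_iff.mp hd).1
  let φ : ↥(T : Subgroup G) → ↥(T : Subgroup G) := fun t =>
    ⟨d⁻¹ * (t : G) * d * (t : G)⁻¹, by
      have h1 := h.T_conj_mem (inv_mem hdH) t.2
      rw [inv_inv] at h1
      exact mul_mem h1 (inv_mem t.2)⟩
  have hφ : Function.Injective φ := by
    intro a b hab
    have h1 : d⁻¹ * (a : G) * d * (a : G)⁻¹ = d⁻¹ * (b : G) * d * (b : G)⁻¹ := congrArg Subtype.val hab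
    have h2 : ((b : G)⁻¹ * (a : G)) * d = d * ((b : G)⁻¹ * (a : G)) := by
      calc ((b : G)⁻¹ * (a : G)) * d = (b : G)⁻¹ * d * (d⁻¹ * (a : G) * d * (a : G)⁻¹) * (a : G) := by group
        _ = (b : G)⁻¹ * d * (d⁻¹ * (b : G) * d * (b : G)⁻¹) * (a : G) := by rw [h1]
        _ = d * ((b : G)⁻¹ * (a : G)) := by group
    have h3 := h.T_comm_D huH hd hd1 (mul_mem (inv_mem b.2) a.2) h2
    exact Subtype.ext (inv_mul_eq_one.mp h3).symm
  obtain ⟨t, ht⟩ := (Finite.injective_iff_surjective.mp hφ) ⟨t₀, ht₀⟩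
  have ht' : d⁻¹ * (t : G) * d * (t : G)⁻¹ = t₀ := congrArg Subtype.val ht
  have hconj : e = (t : G) * d * (t : G)⁻¹ := by
    rw [hedt, ← ht']; group
  refine ⟨t, t.2, ?_⟩
  have htg : (t : G)⁻¹ * g ∉ Hn T := by
    intro hh
    apply hg
    have := mul_mem (T_le_normalizer t.2) hh
    rwa [mul_inv_cancel_left] at this
  have h1 := h.fix_elt hu1 hu huH htg hd hd1 (by
    have : ((t : G)⁻¹ * g)⁻¹ * d * ((t : G)⁻¹ * g) = g⁻¹ * ((t : G) * d * (t : G)⁻¹) * g := by group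
    rw [this, ← hconj]; exact heg)
  have : g⁻¹ * ((t : G) * u) = ((t : G)⁻¹ * g)⁻¹ * u := by group
  rw [this]; exact h1

end BSW

end Cfsg.Agent.Lib.Helper19
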