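import Mathlib

set_option autoImplicit false

/-! A finite abelian group with a commuting family `S` of endomorphisms such that the `S`-translates of
any non-zero element generate the group is the additive group of a field on which the family acts by
multiplications. -/

namespace Cfsg.Agent.Lib.Helper19

universe u

theorem exists_field_of_irred {A : Type u} [AddCommGroup A] [Finite A] (S : Set (AddMonoid.End A))
    (hcomm : ∀ f ∈ S, ∀ g ∈ S, f * g = g * f)
    (hgen : ∀ x : A, x ≠ 0 → AddSubgroup.closure {y | ∃ f ∈ S, f x = y} = ⊤)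
    (e : A) (he : e ≠ 0) :
    ∃ (F : Type) (_ : Field F) (_ : Fintype F) (φ : F ≃+ A), φ 1 = e ∧
      ∀ f ∈ S, ∀ a : F, f (φ a) = φ (φ.symm (f e) * a) := by
  classical
  let R := Subring.closure S
  let _ : CommRing R := Subring.closureCommRingOfComm hcomm
  have hRS : ∀ r : R, ∀ f ∈ S, ∀ x : A, (r : AddMonoid.End A) (f x) = f ((r : AddMonoid.End A) x) := by
    intro r f hf x
    have h1 : r * (⟨f, Subring.subset_closure hf⟩ : R) = ⟨f, Subring.subset_closure hf⟩ * r := mul_comm _ _
    have h2 : (r : AddMonoid.End A) * f = f * (r : AddMonoid.End A) := congrArg Subtype.val h1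
    exact DFunLike.congr_fun h2 x
  -- an element of `R` killing a non-zero element is zero
  have key' : ∀ r : R, ∀ x : A, x ≠ 0 → (r : AddMonoid.End A) x = 0 → r = 0 := by
    intro r x hx hr
    let rr : A →+ A := (r : AddMonoid.End A)
    have hle : AddSubgroup.closure {y | ∃ f ∈ S, f x = y} ≤ rr.ker := by
      rw [AddSubgroup.closure_le]
      rintro _ ⟨f, hf, rfl⟩
      show (r : AddMonoid.End A) (f x) = 0
      rw [hRS r f hf x, hr, map_zero]
    rw [hgen x hx] at hle
    apply Subtype.ext
    ext y
    have h1 : y ∈ rr.ker := hle (AddSubgroup.mem_top y)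
    have h2 : (r : AddMonoid.End A) y = 0 := h1
    rw [h2]; simp
  have key : ∀ r : R, (r : AddMonoid.End A) e = 0 → r = 0 := fun r hr => key' r e he hr
  let ev : R →+ A :=
    { toFun := fun r => (r : AddMonoid.End A) e
      map_zero' := by simp
      map_add' := by intro r s; rfl }
  have hev : ∀ r : R, ev r = (r : AddMonoid.End A) e := fun _ => rfl
  have evinj : Function.Injective ev := by
    rw [injective_iff_map_eq_zero]
    intro r hr
    exact key r hr
  have evsurj : Function.Surjective ev := by
    have hle : AddSubgroup.closure {y | ∃ f ∈ S, f e = y} ≤ ev.range := by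
      rw [AddSubgroup.closure_le]
      rintro _ ⟨f, hf, rfl⟩
      exact ⟨⟨f, Subring.subset_closure hf⟩, rfl⟩
    rw [hgen e he] at hle
    intro x
    exact hle (AddSubgroup.mem_top x)
  have : Finite R := Finite.of_injective ev evinj
  have : Nontrivial R := by
    refine ⟨⟨0, 1, fun h => he ?_⟩⟩
    have h1 : ev 1 = e := by rw [hev]; simp
    rw [← h1, ← h, map_zero]
  have : NoZeroDivisors R := by
    refine ⟨fun {r s} hrs => ?_⟩
    by_cases hs : s = 0
    · exact Or.inr hs
    · left
      have hse : (s : AddMonoid.End A) e ≠ 0 := fun h => hs (key s h)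
      apply key' r _ hse
      have : ((r * s : R) : AddMonoid.End A) e = 0 := by rw [hrs]; simp
      exact this
  have : IsDomain R := NoZeroDivisors.to_isDomain R
  let _ : Field R := (Finite.isField_of_domain R).toField
  let φ₀ : R ≃+ A := AddEquiv.ofBijective ev ⟨evinj, evsurj⟩
  have hsmall : Small.{0} R := Countable.toSmall R
  let ψ : Shrink.{0} R ≃+* R := Shrink.ringEquiv.{0} R
  have : Finite (Shrink.{0} R) := Finite.of_equiv R (equivShrink.{0} R)
  refine ⟨Shrink.{0} R, inferInstance, Fintype.ofFinite _, ψ.toAddEquiv.trans φ₀, ?_, ?_⟩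
  · show ev (ψ 1) = e
    rw [map_one, hev]; simp
  · intro f hf a
    show f (ev (ψ a)) = ev (ψ ((ψ.toAddEquiv.trans φ₀).symm (f e) * a))
    have h1 : ψ ((ψ.toAddEquiv.trans φ₀).symm (f e)) = ⟨f, Subring.subset_closure hf⟩ := by
      apply evinj
      have : ev (ψ ((ψ.toAddEquiv.trans φ₀).symm (f e))) = (ψ.toAddEquiv.trans φ₀) ((ψ.toAddEquiv.trans φ₀).symm (f e)) := rfl
      rw [this, AddEquiv.apply_symm_apply]
      rfl
    rw [map_mul, h1]
    rfl

/-- a subgroup containing more than half of the elements is everything -/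
theorem addSubgroup_eq_top_of_card {A : Type*} [AddGroup A] [Finite A] (C : AddSubgroup A)
    (h : Nat.card A < 2 * Nat.card C) : C = ⊤ := by
  rw [← AddSubgroup.index_eq_one]
  have h1 := C.card_mul_index
  have h2 : C.index ≠ 0 := AddSubgroup.index_ne_zero_of_finite
  by_contra h3
  have h4 : 2 ≤ C.index := by omega
  have : Nat.card C * 2 ≤ Nat.card C * C.index := Nat.mul_le_mul_left _ h4
  omega

end Cfsg.Agent.Lib.Helper19
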