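import Mathlib

set_option autoImplicit false

/-! The functional equation that identifies `x ↦ c / x` on a finite field of odd order. -/

namespace Cfsg.Agent.Lib.Helper19

variable {F : Type*} [Field F] [Fintype F]

theorem exists_sq_add_one_nonsquare (hF : ringChar F ≠ 2) : ∃ z : F, z ≠ 0 ∧ ¬ IsSquare (z ^ 2 + 1) := by
  classical
  by_contra hcon
  push Not at hcon
  obtain ⟨ν, hν⟩ := FiniteField.exists_nonsquare hF
  have hodd : Fintype.card F % 2 = 1 := FiniteField.odd_card_of_char_ne_two hF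
  obtain ⟨a, b, hab⟩ := FiniteField.exists_root_sum_quadratic (R := F)
    (f := Polynomial.X ^ 2) (g := Polynomial.X ^ 2 - Polynomial.C ν)
    (Polynomial.degree_X_pow 2) (Polynomial.degree_X_pow_sub_C (by norm_num) ν) hodd
  simp only [Polynomial.eval_pow, Polynomial.eval_X, Polynomial.eval_sub, Polynomial.eval_C] at hab
  have hν' : ν = a ^ 2 + b ^ 2 := by linear_combination -hab
  apply hν
  by_cases hb : b = 0
  · rw [hν', hb]; exact ⟨a, by ring⟩
  by_cases ha : a = 0
  · rw [hν', ha]; exact ⟨b, by ring⟩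
  obtain ⟨r, hr⟩ := hcon (a / b) (div_ne_zero ha hb)
  refine ⟨b * r, ?_⟩
  have : ν = b ^ 2 * ((a / b) ^ 2 + 1) := by
    rw [hν']; field_simp
  rw [this, hr]; ring

theorem isSquare_div_of_not {x y : F} (hx : ¬ IsSquare x) (hy : ¬ IsSquare y) : IsSquare (x / y) := by
  classical
  have hy0 : y ≠ 0 := by rintro rfl; exact hy ⟨0, by simp⟩
  have hx0 : x ≠ 0 := by rintro rfl; exact hx ⟨0, by simp⟩
  have h1 : quadraticChar F x = -1 := quadraticChar_neg_one_iff_not_isSquare.mpr hx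
  have h2 : quadraticChar F y = -1 := quadraticChar_neg_one_iff_not_isSquare.mpr hy
  have h3 : quadraticChar F (x / y) * quadraticChar F y = quadraticChar F x := by
    rw [← map_mul, div_mul_cancel₀ _ hy0]
  rw [h1, h2] at h3
  have h4 : quadraticChar F (x / y) = 1 := by linarith
  exact (quadraticChar_one_iff_isSquare (div_ne_zero hx0 hy0)).mp h4

theorem kt_core (hF : ringChar F ≠ 2) (υ : F → F) (c : F) (hc0 : c ≠ 0) (hc : IsSquare c)
    (h1 : υ 1 = c)
    (hsq : ∀ a x : F, a ≠ 0 → IsSquare a → x ≠ 0 → υ (a * x) = a⁻¹ * υ x)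
    (hfe : ∀ x : F, x ≠ 0 → υ x + 1 ≠ 0 → υ (υ x + 1) = c - υ (x / c + 1)) :
    ∀ x : F, x ≠ 0 → υ x = c / x := by
  obtain ⟨z, hz0, hz⟩ := exists_sq_add_one_nonsquare hF
  set y := z ^ 2 with hy
  have hy0 : y ≠ 0 := pow_ne_zero 2 hz0
  have hysq : IsSquare y := ⟨z, by rw [hy]; ring⟩
  have hν0 : y + 1 ≠ 0 := by
    intro h; apply hz; rw [h]; exact ⟨0, by simp⟩
  have hS : ∀ x : F, x ≠ 0 → IsSquare x → υ x = c / x := by
    intro x hx0 hx
    have := hsq x 1 hx0 hx one_ne_zero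
    rw [mul_one, h1] at this
    rw [this]; field_simp
  have hx0 : c * y ≠ 0 := mul_ne_zero hc0 hy0
  have e1 : υ (c * y) = 1 / y := by
    rw [hS _ hx0 (hc.mul hysq)]; field_simp
  have e2 : υ (c * y) + 1 = y⁻¹ * (y + 1) := by
    rw [e1]; field_simp; ring
  have e3 : υ (c * y) + 1 ≠ 0 := by
    rw [e2]; exact mul_ne_zero (inv_ne_zero hy0) hν0
  have e4 := hfe _ hx0 e3
  have e5 : c * y / c + 1 = y + 1 := by field_simp
  rw [e2, e5, hsq _ _ (inv_ne_zero hy0) hysq.inv hν0, inv_inv] at e4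
  have e6 : υ (y + 1) = c / (y + 1) := by
    rw [eq_div_iff hν0]; linear_combination e4
  intro x hx0
  by_cases hx : IsSquare x
  · exact hS x hx0 hx
  · have h2 := isSquare_div_of_not hx hz
    have h3 := hsq _ _ (div_ne_zero hx0 hν0) h2 hν0
    rw [div_mul_cancel₀ _ hν0, e6] at h3
    rw [h3]; field_simp

end Cfsg.Agent.Lib.Helper19
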