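import Mathlib
import Cfsg.Agent.Lib.Helper19.PGLGlue

set_option autoImplicit false

/-! Recognising `PSL(2,F)` from a faithful doubly transitive action that is conjugate to a group of
Moebius maps of determinant one. -/

namespace Cfsg.Agent.Lib.Helper19

open OnePoint Matrix

variable {F : Type*} [Field F] [DecidableEq F]

local notation "SL2" => Matrix.SpecialLinearGroup (Fin 2) F

/-- `x ↦ x + b` -/
def slT (b : F) : SL2 := ⟨!![1, b; 0, 1], by simp [Matrix.det_fin_two]⟩

/-- `x ↦ r ^ 2 * x` -/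
def slD (r : F) (hr : r ≠ 0) : SL2 := ⟨!![r, 0; 0, r⁻¹], by simp [Matrix.det_fin_two, hr]⟩

/-- `x ↦ - r ^ 2 / x` -/
def slU (r : F) (hr : r ≠ 0) : SL2 := ⟨!![0, r; -r⁻¹, 0], by simp [Matrix.det_fin_two, hr]⟩

theorem toGL_apply (p : SL2) (i j : Fin 2) : p.toGL i j = p i j := rfl

theorem slT_smul_infty (b : F) : (slT b).toGL • (∞ : OnePoint F) = ∞ := by
  rw [smul_infty_eq_self_iff, toGL_apply]; simp [slT]

theorem slT_smul_coe (b x : F) : (slT b).toGL • (x : OnePoint F) = ((x + b : F) : OnePoint F) := by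
  rw [smul_some_eq_ite]; simp only [toGL_apply]; simp [slT]

theorem slD_smul_infty (r : F) (hr : r ≠ 0) : (slD r hr).toGL • (∞ : OnePoint F) = ∞ := by
  rw [smul_infty_eq_self_iff, toGL_apply]; simp [slD]

theorem slD_smul_coe (r : F) (hr : r ≠ 0) (x : F) :
    (slD r hr).toGL • (x : OnePoint F) = ((r ^ 2 * x : F) : OnePoint F) := by
  rw [smul_some_eq_ite]; simp only [toGL_apply]; simp [slD, hr]; ring

theorem slU_smul_infty (r : F) (hr : r ≠ 0) :
    (slU r hr).toGL • (∞ : OnePoint F) = ((0 : F) : OnePoint F) := by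
  rw [smul_infty_eq_ite]; simp only [toGL_apply]; simp [slU, hr]

theorem slU_smul_zero (r : F) (hr : r ≠ 0) : (slU r hr).toGL • ((0 : F) : OnePoint F) = ∞ := by
  rw [smul_some_eq_ite]; simp only [toGL_apply]; simp [slU]

theorem slU_smul_coe (r : F) (hr : r ≠ 0) {x : F} (hx : x ≠ 0) :
    (slU r hr).toGL • (x : OnePoint F) = ((-r ^ 2 / x : F) : OnePoint F) := by
  rw [smul_some_eq_ite]; simp only [toGL_apply]; simp [slU, hx, hr]; field_simp

theorem sl_ker_toPermHom :
    ((MulAction.toPermHom (GL (Fin 2) F) (OnePoint F)).comp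
      (Matrix.SpecialLinearGroup.toGL : SL2 →* GL (Fin 2) F)).ker = Subgroup.center SL2 := by
  ext p
  rw [MonoidHom.mem_ker, MonoidHom.comp_apply, ← MonoidHom.mem_ker, gl_ker_toPermHom]
  constructor
  · intro h
    rw [Subgroup.mem_center_iff]
    intro q
    apply Matrix.SpecialLinearGroup.toGL_injective
    rw [map_mul, map_mul]
    exact Subgroup.mem_center_iff.mp h _
  · intro h
    rw [Matrix.SpecialLinearGroup.mem_center_iff] at h
    obtain ⟨r, -, hr⟩ := h
    rw [Matrix.GeneralLinearGroup.mem_center_iff_val_mem_range_scalar]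
    exact ⟨r, hr⟩

/-- the recognition lemma -/
theorem nonempty_mulEquiv_PSL {G X : Type*} [Group G] [MulAction G X] [FaithfulSMul G X]
    (γ : OnePoint F ≃ X)
    (h1 : ∀ g : G, ∃ p : SL2, ∀ y, g • γ y = γ (p.toGL • y))
    (h2 : ∀ y₁ y₂ : X, y₁ ≠ y₂ → ∃ g : G, g • γ ∞ = y₁ ∧ g • γ ((0 : F) : OnePoint F) = y₂)
    (h3 : ∀ (r : F) (hr : r ≠ 0), ∃ g : G, ∀ y, g • γ y = γ ((slD r hr).toGL • y)) :
    Nonempty (G ≃* Matrix.ProjectiveSpecialLinearGroup (Fin 2) F) := by
  let Φ : SL2 →* Equiv.Perm X :=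
    (γ.permCongrHom.toMonoidHom).comp ((MulAction.toPermHom (GL (Fin 2) F) (OnePoint F)).comp
      (Matrix.SpecialLinearGroup.toGL : SL2 →* GL (Fin 2) F))
  let Ψ : G →* Equiv.Perm X := MulAction.toPermHom G X
  have hΦ : ∀ p x, Φ p x = γ (p.toGL • γ.symm x) := fun p x => rfl
  have hΨ : ∀ g x, Ψ g x = g • x := fun g x => rfl
  have hΨinj : Function.Injective Ψ := MulAction.toPerm_injective
  have hker : Φ.ker = Subgroup.center SL2 := by
    rw [← sl_ker_toPermHom]
    ext p
    rw [MonoidHom.mem_ker, MonoidHom.mem_ker]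
    show γ.permCongrHom _ = 1 ↔ _
    rw [map_eq_one_iff _ γ.permCongrHom.injective]
  have hsub : ∀ g : G, ∀ p : SL2, (∀ y, g • γ y = γ (p.toGL • y)) → Ψ g = Φ p := by
    intro g p h
    ext x
    rw [hΨ, hΦ, ← h, Equiv.apply_symm_apply]
  have hrange : Ψ.range = Φ.range := by
    apply le_antisymm
    · rintro _ ⟨g, rfl⟩
      obtain ⟨p, hp⟩ := h1 g
      exact ⟨p, (hsub g p hp).symm⟩
    · rintro _ ⟨p, rfl⟩
      have n1 : (∞ : OnePoint F) ≠ ((0 : F) : OnePoint F) := OnePoint.infty_ne_coe _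
      have hne : γ (p.toGL • (∞ : OnePoint F)) ≠ γ (p.toGL • ((0 : F) : OnePoint F)) := by
        intro h
        exact n1 (smul_left_cancel _ (γ.injective h))
      obtain ⟨g, g1, g2⟩ := h2 _ _ hne
      obtain ⟨p', hp'⟩ := h1 g
      set q : SL2 := p'⁻¹ * p with hq
      have f : ∀ y : OnePoint F, g • γ y = γ (p.toGL • y) → q.toGL • y = y := by
        intro y hy
        rw [hp'] at hy
        rw [hq, map_mul, map_inv, mul_smul, ← γ.injective hy, inv_smul_smul]
      have q1 := f _ g1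
      have q2 := f _ g2
      have e1 : q 1 0 = 0 := smul_infty_eq_self_iff.mp q1
      have e1' : q.toGL 1 0 = 0 := e1
      rw [smul_some_eq_ite, e1'] at q2
      simp only [zero_mul, mul_zero, zero_add] at q2
      have e4' : q.toGL 1 1 ≠ 0 := by
        intro h
        rw [if_pos h] at q2
        exact OnePoint.infty_ne_coe _ q2
      rw [if_neg e4', OnePoint.coe_eq_coe] at q2
      have e2' : q.toGL 0 1 = 0 := by
        rcases div_eq_zero_iff.mp q2 with h | h
        · exact h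
        · exact absurd h e4'
      have e2 : q 0 1 = 0 := e2'
      have hdet := q.det_coe
      rw [Matrix.det_fin_two, e1, e2, mul_zero, sub_zero] at hdet
      have hr : q 0 0 ≠ 0 := left_ne_zero_of_mul_eq_one hdet
      have hqD : q = slD (q 0 0) hr := by
        ext i j
        fin_cases i <;> fin_cases j
        · simp [slD]
        · simpa [slD] using e2
        · simpa [slD] using e1
        · simpa [slD] using eq_inv_of_mul_eq_one_right hdet
      obtain ⟨g', hg'⟩ := h3 (q 0 0) hr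
      refine ⟨g * g', ?_⟩
      apply hsub
      intro y
      rw [mul_smul, hg', hp', ← hqD, hq, ← mul_smul, ← map_mul, mul_inv_cancel_left]
  let e1 : G ≃* Ψ.range := MonoidHom.ofInjective hΨinj
  let e2 : Ψ.range ≃* Φ.range := MulEquiv.subgroupCongr hrange
  let e3 : SL2 ⧸ Φ.ker ≃* Φ.range := QuotientGroup.quotientKerEquivRange Φ
  let e4 : SL2 ⧸ Φ.ker ≃* SL2 ⧸ Subgroup.center SL2 :=
    QuotientGroup.quotientMulEquivOfEq hker
  exact ⟨(e1.trans e2).trans (e3.symm.trans e4)⟩

end Cfsg.Agent.Lib.Helper19
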