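import Mathlib
import Cfsg.Agent.Lib.Helper19.FieldOfIrred

set_option autoImplicit false

/-! Field coordinates on an abelian subgroup `T` normalised by an abelian subgroup `D` which acts
freely on `T ∖ 1` with at most two orbits. -/

namespace Cfsg.Agent.Lib.Helper19

theorem exists_field_coord2 {G : Type*} [Group G] [Finite G] (T D : Subgroup G)
    (hTc : ∀ s ∈ T, ∀ t ∈ T, s * t = t * s)
    (hDc : ∀ c ∈ D, ∀ d ∈ D, c * d = d * c)
    (hDT : ∀ d ∈ D, ∀ t ∈ T, d * t * d⁻¹ ∈ T)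
    (hfree : ∀ d ∈ D, ∀ t ∈ T, t ≠ 1 → d * t * d⁻¹ = t → d = 1)
    (hcard : Nat.card T < 2 * (Nat.card D + 1))
    (e : G) (heT : e ∈ T) (he1 : e ≠ 1) :
    ∃ (F : Type) (_ : Field F) (_ : Fintype F) (τ : F → G),
      (∀ a, τ a ∈ T) ∧ (∀ t ∈ T, ∃ a, τ a = t) ∧ Function.Injective τ ∧
      (∀ a b, τ (a + b) = τ a * τ b) ∧ τ 1 = e ∧
      (∀ d ∈ D, ∃ k : F, k ≠ 0 ∧ ∀ a, d * τ a * d⁻¹ = τ (k * a)) ∧
      Fintype.card F = Nat.card T := by
  classical
  let _ : CommGroup ↥T :=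
    { (inferInstance : Group ↥T) with mul_comm := fun a b => Subtype.ext (hTc a a.2 b b.2) }
  let cH : ∀ d : D, ↥T →* ↥T := fun d =>
    { toFun := fun t => ⟨(d : G) * (t : G) * (d : G)⁻¹, hDT d d.2 t t.2⟩
      map_one' := by ext; simp
      map_mul' := by intro a b; ext; simp [mul_assoc] }
  let cE : D → AddMonoid.End (Additive ↥T) := fun d => MonoidHom.toAdditive (cH d)
  have hcE : ∀ (d : D) (x : Additive ↥T), ((cE d x).toMul : G) = (d : G) * (x.toMul : G) * (d : G)⁻¹ :=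
    fun d x => rfl
  let S : Set (AddMonoid.End (Additive ↥T)) := Set.range cE
  have hext : ∀ x y : Additive ↥T, ((x.toMul : ↥T) : G) = ((y.toMul : ↥T) : G) → x = y := by
    intro x y h
    exact Additive.toMul.injective (Subtype.ext h)
  have hcomm : ∀ f ∈ S, ∀ g ∈ S, f * g = g * f := by
    rintro _ ⟨c, rfl⟩ _ ⟨d, rfl⟩
    ext x
    show ((cE c (cE d x)).toMul : G) = ((cE d (cE c x)).toMul : G)
    rw [hcE, hcE, hcE, hcE]
    have h := hDc c c.2 d d.2
    calc (c : G) * ((d : G) * (x.toMul : G) * (d : G)⁻¹) * (c : G)⁻¹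
        = ((c : G) * (d : G)) * (x.toMul : G) * ((c : G) * (d : G))⁻¹ := by group
      _ = ((d : G) * (c : G)) * (x.toMul : G) * ((d : G) * (c : G))⁻¹ := by rw [h]
      _ = (d : G) * ((c : G) * (x.toMul : G) * (c : G)⁻¹) * (d : G)⁻¹ := by group
  have hinj : ∀ f ∈ S, Function.Injective f := by
    rintro _ ⟨d, rfl⟩ x y hxy
    apply hext
    have h1 : ((cE d x).toMul : G) = ((cE d y).toMul : G) := by rw [hxy]
    rw [hcE, hcE] at h1
    exact mul_left_cancel (mul_right_cancel h1)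
  let eA : Additive ↥T := Additive.ofMul ⟨e, heT⟩
  have heA : eA ≠ 0 := by
    intro h
    apply he1
    have h2 : ((eA.toMul : ↥T) : G) = (((0 : Additive ↥T).toMul : ↥T) : G) := by rw [h]
    exact h2
  have hgen : ∀ x : Additive ↥T, x ≠ 0 → AddSubgroup.closure {y | ∃ f ∈ S, f x = y} = ⊤ := by
    intro x hx
    have hx1 : ((x.toMul : ↥T) : G) ≠ 1 := by
      intro h
      apply hx
      apply hext
      rw [h]; simp
    apply addSubgroup_eq_top_of_card
    set C := AddSubgroup.closure {y | ∃ f ∈ S, f x = y} with hC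
    -- an injection `Option D → C`
    let j : Option D → C := fun o => o.elim 0 (fun d => ⟨cE d x, AddSubgroup.subset_closure ⟨cE d, ⟨d, rfl⟩, rfl⟩⟩)
    have hj : Function.Injective j := by
      intro o₁ o₂ h
      have hne : ∀ d : D, cE d x ≠ 0 := by
        intro d h0
        apply hx
        apply hinj (cE d) ⟨d, rfl⟩
        rw [h0, map_zero]
      rcases o₁ with _ | d₁ <;> rcases o₂ with _ | d₂
      · rfl
      · exact absurd (congrArg Subtype.val h).symm (hne d₂)
      · exact absurd (congrArg Subtype.val h) (hne d₁)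
      · have h1 : cE d₁ x = cE d₂ x := congrArg Subtype.val h
        have h2 : ((cE d₁ x).toMul : G) = ((cE d₂ x).toMul : G) := by rw [h1]
        rw [hcE, hcE] at h2
        have h3 : ((d₂ : G)⁻¹ * d₁) * (x.toMul : G) * ((d₂ : G)⁻¹ * d₁)⁻¹ = (x.toMul : G) := by
          calc ((d₂ : G)⁻¹ * d₁) * (x.toMul : G) * ((d₂ : G)⁻¹ * d₁)⁻¹
              = (d₂ : G)⁻¹ * ((d₁ : G) * (x.toMul : G) * (d₁ : G)⁻¹) * d₂ := by group
            _ = (x.toMul : G) := by rw [h2]; group
        have h4 := hfree _ (D.mul_mem (D.inv_mem d₂.2) d₁.2) _ (x.toMul : ↥T).2 hx1 h3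
        have h5 : (d₁ : G) = d₂ := (inv_mul_eq_one.mp h4).symm
        rw [Subtype.ext h5]
    have h1 : Nat.card (Option D) ≤ Nat.card C := Nat.card_le_card_of_injective j hj
    have h2 : Nat.card (Option D) = Nat.card D + 1 := by
      have := Fintype.ofFinite D
      rw [Nat.card_eq_fintype_card, Fintype.card_option, Nat.card_eq_fintype_card]
    have h3 : Nat.card (Additive ↥T) = Nat.card T := Nat.card_congr Additive.toMul
    omega
  obtain ⟨F, iF, iFt, φ, hφ1, hφ⟩ := exists_field_of_irred S hcomm hgen eA heA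
  refine ⟨F, iF, iFt, fun a => (((φ a).toMul : ↥T) : G), ?_, ?_, ?_, ?_, ?_, ?_, ?_⟩
  · intro a
    exact ((φ a).toMul : ↥T).2
  · intro t ht
    refine ⟨φ.symm (Additive.ofMul ⟨t, ht⟩), ?_⟩
    beta_reduce
    rw [AddEquiv.apply_symm_apply]
    rfl
  · intro a b hab
    exact φ.injective (hext _ _ hab)
  · intro a b
    beta_reduce
    rw [map_add]
    rfl
  · show (((φ 1).toMul : ↥T) : G) = e
    rw [hφ1]
    rfl
  · intro d hd
    refine ⟨φ.symm (cE ⟨d, hd⟩ eA), ?_, ?_⟩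
    · intro h
      have h1 : cE ⟨d, hd⟩ eA = 0 := by
        have := congrArg φ h
        rwa [AddEquiv.apply_symm_apply, map_zero] at this
      apply heA
      apply hinj (cE ⟨d, hd⟩) ⟨⟨d, hd⟩, rfl⟩
      rw [h1, map_zero]
    · intro a
      have := hφ (cE ⟨d, hd⟩) ⟨⟨d, hd⟩, rfl⟩ a
      beta_reduce
      rw [← this, hcE]
  · rw [← Nat.card_eq_fintype_card]
    exact Nat.card_congr (φ.toEquiv.trans Additive.toMul)

end Cfsg.Agent.Lib.Helper19
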