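import Mathlib
import Cfsg.Agent.Lib.Helper19.PSLCore

set_option autoImplicit false

/-! Coordinates for groups of `PSL(2,F)`-type, `|F| ≡ 1 (mod 4)`: the action of the element `u`. -/

namespace Cfsg.Agent.Lib.Helper19

open OnePoint Matrix

theorem psl2_coords {G X : Type*} [Group G] [Finite G] [MulAction G X]
    (T D : Subgroup G) (u : G) (oI o0 : X) (hne : o0 ≠ oI)
    (hTc : ∀ s ∈ T, ∀ t ∈ T, s * t = t * s)
    (hTfix : ∀ t ∈ T, t • oI = oI)
    (hTtrans : ∀ x : X, x ≠ oI → ∃ t ∈ T, t • o0 = x)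
    (hTfree : ∀ t ∈ T, t • o0 = o0 → t = 1)
    (hDc : ∀ c ∈ D, ∀ d ∈ D, c * d = d * c)
    (hDfixI : ∀ d ∈ D, d • oI = oI) (hDfix0 : ∀ d ∈ D, d • o0 = o0)
    (hDT : ∀ d ∈ D, ∀ t ∈ T, d * t * d⁻¹ ∈ T)
    (hstab : ∀ x ∈ T, ∀ y ∈ T, (u * x * (u * y * u)) • oI = oI →
      ∃ t ∈ T, ∃ d ∈ D, u * x * (u * y * u) = t * d)
    (hfree : ∀ d ∈ D, ∀ t ∈ T, t ≠ 1 → d * t * d⁻¹ = t → d = 1)
    (hcard : Nat.card T = 2 * Nat.card D + 1)
    (t₀ : G) (ht₀D : t₀ ∈ D) (ht₀ : ∀ t ∈ T, t₀ * t * t₀⁻¹ = t⁻¹)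
    (hu1 : u • oI = o0) (hu2 : u • o0 = oI) (huu : u * u = 1)
    (hud : ∀ d ∈ D, u * d * u⁻¹ = d⁻¹) :
    ∃ (F : Type) (_ : Field F) (_ : Fintype F) (τ : F → G),
      (∀ a, τ a ∈ T) ∧ (∀ t ∈ T, ∃ a, τ a = t) ∧ Function.Injective τ ∧
      (∀ a b, τ (a + b) = τ a * τ b) ∧ Fintype.card F = Nat.card T ∧ ringChar F ≠ 2 ∧
      (∀ d ∈ D, ∃ k : F, k ≠ 0 ∧ IsSquare k ∧ ∀ a, d * τ a * d⁻¹ = τ (k * a)) ∧
      (∀ k : F, k ≠ 0 → IsSquare k → ∃ d ∈ D, ∀ a, d * τ a * d⁻¹ = τ (k * a)) ∧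
      ∃ c : F, c ≠ 0 ∧ ∀ x : F, x ≠ 0 → u • τ x • o0 = τ (c / x) • o0 := by
  classical
  have hDpos : 0 < Nat.card D := Nat.card_pos
  obtain ⟨e, heT, he1⟩ : ∃ e ∈ T, e ≠ 1 := by
    by_contra hcon
    push Not at hcon
    have : T = ⊥ := (Subgroup.eq_bot_iff_forall T).2 hcon
    rw [this, Subgroup.card_bot] at hcard
    omega
  obtain ⟨F, iF, iFt, τ, hτT, hτsurj, hτinj, hτadd, hτ1, hτD, hcardF⟩ :=
    exists_field_coord2 T D hTc hDc hDT hfree (by omega) e heT he1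
  have hF : ringChar F ≠ 2 := by
    intro h
    have := FiniteField.even_card_of_char_two h
    omega
  have hhalf : Fintype.card F / 2 = Nat.card D := by omega
  have hτ0 : τ 0 = 1 := by
    have := hτadd 0 0
    rw [add_zero] at this
    exact (mul_eq_left.mp this.symm)
  have hτneg : ∀ a, τ (-a) = (τ a)⁻¹ := by
    intro a
    rw [eq_inv_iff_mul_eq_one, ← hτadd, neg_add_cancel, hτ0]
  -- the scalars
  choose κ hκ0 hκ using fun d : D => hτD d d.2
  have hκuniq : ∀ (d : D) (k : F), (d : G) * τ 1 * (d : G)⁻¹ = τ k → κ d = k := by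
    intro d k h
    have := hκ d 1
    rw [mul_one, h] at this
    exact (hτinj this).symm
  have hκmul : ∀ d d' : D, κ (d * d') = κ d * κ d' := by
    intro d d'
    apply hκuniq
    have : ((d * d' : D) : G) * τ 1 * ((d * d' : D) : G)⁻¹
        = (d : G) * ((d' : G) * τ 1 * (d' : G)⁻¹) * (d : G)⁻¹ := by
      rw [Subgroup.coe_mul]; group
    rw [this, hκ d' 1, hκ d, mul_one]
  have hκone : κ 1 = 1 := by
    apply hκuniq
    simp
  let κH : D →* F := { toFun := κ, map_one' := hκone, map_mul' := hκmul }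
  have hκpow : ∀ d : D, κ d ^ Nat.card D = 1 := by
    intro d
    have : κH (d ^ Nat.card D) = κH d ^ Nat.card D := map_pow κH d _
    rw [pow_card_eq_one', map_one] at this
    exact this.symm
  have hκinj : Function.Injective κ := by
    intro d d' h
    have h1 : ((d' : G)⁻¹ * d) * e * ((d' : G)⁻¹ * d)⁻¹ = e := by
      have e1 := hκ d 1
      have e2 := hκ d' 1
      rw [h, ← e2, hτ1] at e1
      calc ((d' : G)⁻¹ * d) * e * ((d' : G)⁻¹ * d)⁻¹
          = (d' : G)⁻¹ * ((d : G) * e * (d : G)⁻¹) * d' := by group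
        _ = e := by rw [e1]; group
    have h2 := hfree _ (D.mul_mem (D.inv_mem d'.2) d.2) e heT he1 h1
    exact Subtype.ext (inv_mul_eq_one.mp h2).symm
  have hκsq : ∀ d : D, IsSquare (κ d) := by
    intro d
    rw [FiniteField.isSquare_iff hF (hκ0 d), hhalf]
    exact hκpow d
  have := Fintype.ofFinite D
  have hsqκ : ∀ a : F, a ≠ 0 → IsSquare a → ∃ d : D, κ d = a := by
    intro a ha hsq
    have := mem_of_isSquare_of_card hF (Finset.univ.image κ)
      (by
        intro k hk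
        obtain ⟨d, -, rfl⟩ := Finset.mem_image.mp hk
        rw [hhalf]; exact hκpow d)
      (by
        rw [Finset.card_image_of_injective _ hκinj, Finset.card_univ, hhalf,
          Nat.card_eq_fintype_card])
      (by omega) a ha hsq
    obtain ⟨d, -, hd⟩ := Finset.mem_image.mp this
    exact ⟨d, hd⟩
  have hκt₀ : κ ⟨t₀, ht₀D⟩ = -1 := by
    apply hκuniq
    rw [hτneg]
    exact ht₀ _ (hτT 1)
  have hneg1 : IsSquare (-1 : F) := hκt₀ ▸ hκsq _
  -- the coordinate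
  let γ₀ : OnePoint F → X := fun y => y.elim oI (fun a => τ a • o0)
  have hγI : γ₀ ∞ = oI := rfl
  have hγc : ∀ a : F, γ₀ (a : OnePoint F) = τ a • o0 := fun a => rfl
  have hγcne : ∀ a : F, γ₀ (a : OnePoint F) ≠ oI := by
    intro a h
    rw [hγc, ← hTfix (τ a) (hτT a)] at h
    exact hne (smul_left_cancel _ h)
  have hγinj : Function.Injective γ₀ := by
    intro y z hyz
    induction y using OnePoint.rec with
    | infty =>
      induction z using OnePoint.rec with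
      | infty => rfl
      | coe b => exact absurd hyz.symm (hγcne b)
    | coe a =>
      induction z using OnePoint.rec with
      | infty => exact absurd hyz (hγcne a)
      | coe b =>
        rw [hγc, hγc] at hyz
        have h1 : ((τ b)⁻¹ * τ a) • o0 = o0 := by
          rw [mul_smul, hyz, inv_smul_smul]
        have h2 := hTfree _ (mul_mem (inv_mem (hτT b)) (hτT a)) h1
        rw [hτinj (inv_mul_eq_one.mp h2).symm]
  have hγsurj : Function.Surjective γ₀ := by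
    intro x
    by_cases hx : x = oI
    · exact ⟨∞, hx.symm⟩
    · obtain ⟨t, ht, htx⟩ := hTtrans x hx
      obtain ⟨a, rfl⟩ := hτsurj t ht
      exact ⟨(a : OnePoint F), htx⟩
  let γ : OnePoint F ≃ X := Equiv.ofBijective γ₀ ⟨hγinj, hγsurj⟩
  have hγ : ∀ y, γ y = γ₀ y := fun y => rfl
  have hγ0 : γ₀ ((0 : F) : OnePoint F) = o0 := by rw [hγc, hτ0, one_smul]
  have hγcinj : ∀ a b : F, γ₀ (a : OnePoint F) = γ₀ (b : OnePoint F) → a = b :=
    fun a b h => OnePoint.coe_injective (hγinj h)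
  -- actions
  have hTact : ∀ b a : F, τ b • γ₀ (a : OnePoint F) = γ₀ ((a + b : F) : OnePoint F) := by
    intro b a
    rw [hγc, hγc, ← mul_smul, ← hτadd, add_comm]
  have hDact : ∀ (d : D) (a : F), (d : G) • γ₀ (a : OnePoint F) = γ₀ ((κ d * a : F) : OnePoint F) := by
    intro d a
    rw [hγc, hγc, ← hκ d a]
    nth_rewrite 2 [← hDfix0 d d.2]
    simp only [← mul_smul]
    congr 1
    group
  have huinv : u⁻¹ = u := inv_eq_of_mul_eq_one_left huu
  -- the function `υ`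
  have hυex : ∀ x : F, x ≠ 0 → ∃ y : F, y ≠ 0 ∧ u • γ₀ (x : OnePoint F) = γ₀ (y : OnePoint F) := by
    intro x hx
    obtain ⟨y, hy⟩ := hγsurj (u • γ₀ (x : OnePoint F))
    have hy1 : y ≠ ∞ := by
      rintro rfl
      rw [hγI, ← hu2] at hy
      have := smul_left_cancel u hy
      rw [← hγ0] at this
      exact hx (hγcinj _ _ this).symm
    have hy2 : y ≠ ((0 : F) : OnePoint F) := by
      rintro rfl
      rw [hγ0, ← hu1] at hy
      exact hγcne x (smul_left_cancel u hy).symm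
    obtain ⟨c, rfl⟩ := OnePoint.ne_infty_iff_exists.mp hy1
    exact ⟨c, fun h => hy2 (by rw [h]), hy.symm⟩
  let υ : F → F := fun x => if hx : x ≠ 0 then (hυex x hx).choose else 0
  have hυ0 : ∀ x : F, x ≠ 0 → υ x ≠ 0 := by
    intro x hx
    simp only [υ, dif_pos hx]
    exact (hυex x hx).choose_spec.1
  have hυ : ∀ x : F, x ≠ 0 → u • γ₀ (x : OnePoint F) = γ₀ (υ x : OnePoint F) := by
    intro x hx
    simp only [υ, dif_pos hx]
    exact (hυex x hx).choose_spec.2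
  have hυυ : ∀ x : F, x ≠ 0 → υ (υ x) = x := by
    intro x hx
    apply hγcinj
    rw [← hυ _ (hυ0 x hx), ← hυ x hx, ← mul_smul, huu, one_smul]
  have hυD : ∀ (d : D) (x : F), x ≠ 0 → υ (κ d * x) = (κ d)⁻¹ * υ x := by
    intro d x hx
    apply hγcinj
    rw [← hυ _ (mul_ne_zero (hκ0 d) hx), ← hDact, ← mul_smul]
    have e3 : u * (d : G) = (d : G)⁻¹ * u := by
      rw [← hud d d.2]; group
    rw [e3, mul_smul, hυ x hx, inv_smul_eq_iff, hDact, mul_inv_cancel_left₀ (hκ0 d)]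
  have hsq : ∀ a x : F, a ≠ 0 → IsSquare a → x ≠ 0 → υ (a * x) = a⁻¹ * υ x := by
    intro a x ha hsa hx
    obtain ⟨d, rfl⟩ := hsqκ a ha hsa
    exact hυD d x hx
  have hυneg : ∀ x : F, x ≠ 0 → υ (-x) = -υ x := by
    intro x hx
    have := hsq (-1) x (by simp) hneg1 hx
    rw [neg_one_mul] at this
    rw [this, inv_neg_one, neg_one_mul]
  set c := υ 1 with hc
  have hc0 : c ≠ 0 := hυ0 1 one_ne_zero
  have hυc : υ c = 1 := hυυ 1 one_ne_zero
  -- the relation
  have hfixI : (u * τ (-c) * (u * τ 1 * u)) • oI = oI := by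
    simp only [mul_smul]
    rw [hu1, ← hγ0, hTact, zero_add, hυ 1 one_ne_zero, hTact, ← hc, add_neg_cancel, hγ0, hu2]
  obtain ⟨t', ht', d', hd', hrel⟩ := hstab _ (hτT _) _ (hτT _) hfixI
  obtain ⟨β, rfl⟩ := hτsurj t' ht'
  set k := κ ⟨d', hd'⟩ with hk
  have hk0 : k ≠ 0 := hκ0 _
  have hrel' : ∀ x : F, (u * τ (-c) * (u * τ 1 * u)) • γ₀ (x : OnePoint F)
      = γ₀ ((k * x + β : F) : OnePoint F) := by
    intro x
    rw [hrel, mul_smul]
    have := hDact ⟨d', hd'⟩ x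
    rw [show ((⟨d', hd'⟩ : D) : G) = d' from rfl] at this
    rw [this, hTact]
  have hβ : β = -1 := by
    have h := hrel' 0
    simp only [mul_smul] at h
    rw [hγ0, hu2, hTfix _ (hτT 1), hu1, ← hγ0, hTact, zero_add, hυ _ (neg_ne_zero.mpr hc0),
      hυneg c hc0, hυc, mul_zero, zero_add] at h
    exact (hγcinj _ _ h).symm
  have hkc : k = -1 / c := by
    have h := hrel' (-c)
    simp only [mul_smul] at h
    rw [hυ _ (neg_ne_zero.mpr hc0), hυneg c hc0, hυc, hTact, neg_add_cancel, hγ0, hu2,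
      hTfix _ (hτT _), hu1, ← hγ0] at h
    have h' := hγcinj _ _ h
    rw [hβ] at h'
    field_simp
    linear_combination h'
  have hcsq : IsSquare c := by
    have h1 : IsSquare k := hκsq _
    have h2 : c = -1 / k := by
      rw [hkc]; field_simp
    rw [h2]
    exact hneg1.div h1
  have hfe : ∀ x : F, x ≠ 0 → υ x + 1 ≠ 0 → υ (υ x + 1) = c - υ (x / c + 1) := by
    intro x hx hx1
    have h := hrel' x
    simp only [mul_smul] at h
    rw [hυ x hx, hTact, hυ _ hx1, hTact] at h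
    have hw : υ (υ x + 1) + -c ≠ 0 := by
      intro h0
      rw [h0, hγ0, hu2] at h
      exact hγcne _ h.symm
    rw [hυ _ hw] at h
    have h' := hγcinj _ _ h
    have h3 : υ (υ x + 1) + -c = υ (k * x + β) := by
      rw [← h', hυυ _ hw]
    have h4 : k * x + β = -(x / c + 1) := by
      rw [hkc, hβ]; field_simp; ring
    have h5 : x / c + 1 ≠ 0 := by
      intro h0
      have h6 := hυ0 _ hw
      rw [h', h4, h0, neg_zero] at h6
      exact h6 rfl
    rw [h4, hυneg _ h5] at h3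
    linear_combination h3
  have hmain := kt_core hF υ c hc0 hcsq hc.symm hsq hfe
  refine ⟨F, iF, iFt, τ, hτT, hτsurj, hτinj, hτadd, hcardF, hF, ?_, ?_, c, hc0, ?_⟩
  · intro d hd
    exact ⟨κ ⟨d, hd⟩, hκ0 _, hκsq _, hκ ⟨d, hd⟩⟩
  · intro k hk0' hksq
    obtain ⟨d, rfl⟩ := hsqκ k hk0' hksq
    exact ⟨d, d.2, hκ d⟩
  · intro x hx
    have := hυ x hx
    rw [hγc, hγc, hmain x hx] at this
    exact this

end Cfsg.Agent.Lib.Helper19
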