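import Cfsg.Agent.Lib.Helper19.SuzInd2
import Cfsg.Agent.Lib.Helper19.SuzDual

/-! # The abstract Suzuki context: values and Frobenius–Schur sums of the induced characters
(helper19) -/

set_option autoImplicit false
set_option linter.unusedSectionVars false

namespace Cfsg.Agent.Lib.Helper19.Suz

open Cfsg Cfsg.Agent.Lib.Helper15 Cfsg.Agent.Lib.Helper6 Cfsg.Agent.Lib.Helper74

local notation "conj" => starRingEnd ℂ

/-- `N` is a T.I. subgroup of order `n` with Frobenius normaliser `B` of order `n d`, of index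
`n + 1`; `Z` is the set of elements of `N` of order at most two, a central subgroup of order
`q = d + 1` containing all squares; the elements of even order are the conjugates of `N \ 1`. -/
structure Ctx (G : Type*) [Group G] (B N Z : Subgroup G) (n d q m : ℕ) : Prop where
  hs : TIFrob.Setup B N
  cardN : Nat.card N = n
  cardB : Nat.card B = n * d
  cardG : Nat.card G = (n + 1) * (n * d)
  cardZ : Nat.card Z = q
  hq : q = d + 1
  ZN : Z ≤ N
  Zcent : ∀ z ∈ Z, ∀ x ∈ N, z * x = x * z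
  sq_mem : ∀ x ∈ N, x * x ∈ Z
  sq_one : ∀ x ∈ N, x * x = 1 ↔ x ∈ Z
  conjZ : ∀ x ∈ Z, x ≠ 1 → ∀ y ∈ Z, y ≠ 1 → IsConj x y
  hm : Odd m
  heven : ∀ g : G, g ^ m ≠ 1 → ∃ c : G, c⁻¹ * g * c ∈ N
  hodd : ∀ x ∈ N, x ^ m = 1 → x = 1

variable {G : Type*} [Group G] {B N Z : Subgroup G} {n d q m : ℕ}

theorem Ctx.normalZ (h : Ctx G B N Z n d q m) : (Z.subgroupOf N).Normal := by
  constructor
  intro z hz x
  rw [Subgroup.mem_subgroupOf] at hz ⊢
  have := h.Zcent z hz x x.2
  have e : ((x * z * x⁻¹ : N) : G) = z := by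
    push_cast
    rw [← this]; group
  rw [e]; exact hz

theorem Ctx.sq_sub (h : Ctx G B N Z n d q m) : ∀ x : N, x * x ∈ Z.subgroupOf N := by
  intro x
  rw [Subgroup.mem_subgroupOf]
  exact h.sq_mem x x.2

theorem Ctx.npos (h : Ctx G B N Z n d q m) [Finite G] : 0 < n := by
  rw [← h.cardN]; exact Nat.card_pos

theorem Ctx.dpos (h : Ctx G B N Z n d q m) [Finite G] : 0 < d := by
  have : 0 < Nat.card B := Nat.card_pos
  rw [h.cardB] at this
  exact Nat.pos_of_mul_pos_left this |> fun _ => by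
    rcases Nat.eq_zero_or_pos d with h0 | h0
    · subst h0; simp at this
    · exact h0

theorem Ctx.Zconj (h : Ctx G B N Z n d q m) {g : G} (hg : g ∈ B) {z : G} (hz : z ∈ Z) :
    g⁻¹ * z * g ∈ Z := by
  have h1 : g⁻¹ * z * g ∈ N := by
    have := h.hs.normal g⁻¹ (B.inv_mem hg) z (h.ZN hz)
    rwa [inv_inv] at this
  rw [← h.sq_one _ h1]
  have h2 : z * z = 1 := (h.sq_one z (h.ZN hz)).2 hz
  calc g⁻¹ * z * g * (g⁻¹ * z * g) = g⁻¹ * (z * z) * g := by group
    _ = 1 := by rw [h2]; group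

theorem Ctx.exists_z (h : Ctx G B N Z n d q m) [Finite G] : ∃ z ∈ Z, z ≠ 1 := by
  have h1 : 1 < Nat.card Z := by
    rw [h.cardZ, h.hq]; have := h.dpos; omega
  have : Nontrivial Z := (Finite.one_lt_card_iff_nontrivial).1 h1
  obtain ⟨z, hz⟩ := exists_ne (1 : Z)
  exact ⟨z, z.2, fun h' => hz (Subtype.ext h')⟩

variable [Fintype G] [Fintype N]

theorem Ctx.Psi_one (h : Ctx G B N Z n d q m) (μ : N →* ℂˣ) :
    (Psi μ : G → ℂ) 1 = ((n : ℂ) + 1) * d := by
  unfold Psi
  rw [indFun_one, fn_one, mul_one]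
  have h1 := Subgroup.card_mul_index N
  rw [h.cardN, h.cardG] at h1
  have h2 : N.index = (n + 1) * d := by
    apply Nat.eq_of_mul_eq_mul_left h.npos
    rw [h1]; ring
  rw [h2]; push_cast; ring

theorem Ctx.Psi_Z (h : Ctx G B N Z n d q m) (μ : MZ (Z.subgroupOf N)) {z : G} (hz : z ∈ Z)
    (hz1 : z ≠ 1) : (Psi μ.1 : G → ℂ) z = d := by
  classical
  unfold Psi
  rw [indFun_apply]
  have hterm : ∀ x : G, extendByZero N (fn μ.1) (x⁻¹ * z * x) = if x ∈ B then 1 else 0 := by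
    intro x
    split_ifs with hx
    · have hZ := h.Zconj hx hz
      rw [extendByZero_mem N _ (h.ZN hZ)]
      unfold fn
      rw [μ.2 _ (Subgroup.mem_subgroupOf.2 hZ)]; rfl
    · apply extendByZero_not_mem
      intro h'
      apply hx
      have := h.hs.ti x⁻¹ z (h.ZN hz) hz1 (by rwa [inv_inv])
      simpa using B.inv_mem this
  rw [Finset.sum_congr rfl (fun x _ => hterm x), Finset.sum_ite, Finset.sum_const_zero, add_zero,
    Finset.sum_const, nsmul_eq_mul, mul_one]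
  have hcard : (Finset.univ.filter (fun x : G => x ∈ B)).card = Nat.card B := by
    rw [Nat.card_eq_fintype_card, Fintype.card_subtype]
  rw [hcard, h.cardB, h.cardN]
  have : (n : ℂ) ≠ 0 := by exact_mod_cast h.npos.ne'
  push_cast
  field_simp

/-- sum of a function over the squares of `N` -/
theorem Ctx.sum_sq (h : Ctx G B N Z n d q m) (X : G → ℂ) (xz : ℂ)
    (hX : ∀ z ∈ Z, z ≠ 1 → X z = xz) :
    ∑ y : N, X ((y : G) * y) = q * X 1 + ((n : ℂ) - q) * xz := by
  classical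
  have hterm : ∀ y : N, X ((y : G) * y) = if (y : G) ∈ Z then X 1 else xz := by
    intro y
    split_ifs with hy
    · rw [(h.sq_one y y.2).2 hy]
    · exact hX _ (h.sq_mem y y.2) (fun h' => hy ((h.sq_one y y.2).1 h'))
  rw [Finset.sum_congr rfl (fun y _ => hterm y), Finset.sum_ite, Finset.sum_const,
    Finset.sum_const, nsmul_eq_mul, nsmul_eq_mul]
  have c1 : (Finset.univ.filter (fun y : N => (y : G) ∈ Z)).card = q := by
    rw [← h.cardZ, ← Nat.card_congr (Subgroup.subgroupOfEquivOfLe h.ZN).toEquiv,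
      Nat.card_eq_fintype_card, Fintype.card_subtype]
    rfl
  have c2 : ((Finset.univ.filter (fun y : N => ¬ (y : G) ∈ Z)).card : ℂ) = (n : ℂ) - q := by
    have := Finset.card_filter_add_card_filter_not (s := (Finset.univ : Finset N))
      (fun y : N => (y : G) ∈ Z)
    rw [c1, Finset.card_univ, ← Nat.card_eq_fintype_card, h.cardN] at this
    rw [← this]; push_cast; ring
  rw [c1, c2]

theorem sum_eq_of_inner {X' : Type*} [Group X'] [Fintype X'] (F : X' → ℂ) :
    ∑ g : X', F g = (Nat.card X' : ℂ) * classInner F (fun _ => 1) := by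
  unfold classInner
  have : (Nat.card X' : ℂ) ≠ 0 := by exact_mod_cast Nat.card_pos.ne'
  rw [← mul_assoc, mul_inv_cancel₀ this, one_mul]
  simp

theorem fn_one' : (fn (1 : N →* ℂˣ)) = fun _ => 1 := by
  funext x; simp [fn]

open Classical in
theorem rel_one_false (μ : N →* ℂˣ) (hμ : μ ≠ 1) (g : G) : ¬ rel B μ 1 g := by
  rintro ⟨-, h2⟩
  apply hμ
  apply fn_inj
  funext x
  rw [← h2 x, fn_one']
  by_cases hx : g⁻¹ * (x : G) * g ∈ N
  · rw [extendByZero_mem N _ hx]
  · exfalso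
    have h3 := h2 x
    rw [extendByZero_not_mem N _ hx] at h3
    exact (Units.ne_zero (μ x)) h3.symm

/-- `∑_{y ∈ N} Ψ(y) = n d`. -/
theorem Ctx.sum_Psi_N (h : Ctx G B N Z n d q m) (μ : N →* ℂˣ) (hμ : μ ≠ 1) :
    ∑ y : N, (Psi μ : G → ℂ) y = n * d := by
  classical
  have h1 := inner_Psi h.hs h.cardN h.cardB h.cardG μ 1
  have h2 : (Finset.univ.filter (fun g : G => rel B μ 1 g)).card = 0 := by
    rw [Finset.card_eq_zero, Finset.filter_eq_empty_iff]
    intro g _
    exact rel_one_false μ hμ g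
  rw [h2, Nat.cast_zero, add_zero] at h1
  have h3 : classInner (Psi μ : G → ℂ) (Psi (1 : N →* ℂˣ)) =
      classInner (fun y : N => (Psi μ : G → ℂ) y) (fun _ => 1) := by
    conv_lhs => rw [show (Psi (1 : N →* ℂˣ) : G → ℂ) = indFun N (fn 1) from rfl]
    rw [classInner_indFun_right N _ _ (char_cf (Psi_char μ)), fn_one']
  rw [sum_eq_of_inner, h.cardN, ← h3, h1]

theorem Ctx.sum_Psi_G (μ : N →* ℂˣ) (hμ : μ ≠ 1) :
    ∑ g : G, (Psi μ : G → ℂ) g = 0 := by
  classical
  rw [sum_eq_of_inner]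
  unfold Psi
  rw [classInner_indFun_left N _ _ (fun _ _ => rfl), ← fn_one', inner_fn, if_neg hμ, mul_zero]

theorem Ctx.fsInd_Psi (h : Ctx G B N Z n d q m) (μ : MZ (Z.subgroupOf N)) (hμ : μ.1 ≠ 1) :
    fsInd (Psi μ.1 : G → ℂ) = q := by
  unfold fsInd
  rw [fs_sum h.hs h.cardN h.cardB h.cardG h.hm h.heven h.hodd (char_cf (Psi_char μ.1)),
    Ctx.sum_Psi_G μ.1 hμ, h.sum_Psi_N μ.1 hμ, h.sum_sq _ d (fun z hz hz1 => h.Psi_Z μ hz hz1),
    h.Psi_one, h.cardG]
  have h1 : (n : ℂ) ≠ 0 := by exact_mod_cast h.npos.ne'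
  have h2 : (d : ℂ) ≠ 0 := by exact_mod_cast h.dpos.ne'
  have h3 : (n : ℂ) + 1 ≠ 0 := by exact_mod_cast (Nat.succ_ne_zero n)
  push_cast
  field_simp
  ring

end Cfsg.Agent.Lib.Helper19.Suz
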