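import Cfsg.Agent.Lib.Helper6.TIFrob2
import Cfsg.Agent.Lib.Helper74.CharBasic
import Cfsg.Agent.Lib.Helper19.SuzFS

/-! # Linear characters induced from a T.I. Frobenius kernel (helper19) -/

set_option autoImplicit false
set_option linter.unusedSectionVars false

namespace Cfsg.Agent.Lib.Helper19.Suz

open Cfsg Cfsg.Agent.Lib.Helper15 Cfsg.Agent.Lib.Helper6 Cfsg.Agent.Lib.Helper74

local notation "conj" => starRingEnd ℂ

variable {G : Type*} [Group G] {B N : Subgroup G}

/-- the function of a linear character -/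
def fn (μ : N →* ℂˣ) : N → ℂ := fun x => ((μ x : ℂˣ) : ℂ)

theorem fn_irr (μ : N →* ℂˣ) : IsIrrCharacter N (fn μ) := isIrrCharacter_of_hom μ

theorem fn_inj {μ μ' : N →* ℂˣ} (h : fn μ = fn μ') : μ = μ' := by
  ext x
  exact congrFun h x

theorem fn_one (μ : N →* ℂˣ) : fn μ 1 = 1 := by simp [fn]

theorem inner_fn [Fintype N] (μ μ' : N →* ℂˣ) [Decidable (μ = μ')] :
    classInner (fn μ) (fn μ') = if μ = μ' then 1 else 0 := by
  split_ifs with h
  · rw [h]; exact irr_inner_self (fn_irr μ')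
  · exact irr_inner_ne (fn_irr μ) (fn_irr μ') (fun h' => h (fn_inj h'))

/-- conjugation by an element of `B` as an endomorphism of `N` -/
def cj (hs : TIFrob.Setup B N) (g : G) (hg : g ∈ B) : N →* N where
  toFun x := ⟨g⁻¹ * x * g, by
    have := hs.normal g⁻¹ (B.inv_mem hg) x x.2
    rwa [inv_inv] at this⟩
  map_one' := by ext; simp
  map_mul' x y := by ext; simp [mul_assoc]

/-- `μ` is the conjugate of `μ'` by `g ∈ B` -/
def rel (B : Subgroup G) (μ μ' : N →* ℂˣ) (g : G) : Prop :=
  g ∈ B ∧ ∀ x : N, extendByZero N (fn μ') (g⁻¹ * x * g) = fn μ x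

theorem ext_cj (hs : TIFrob.Setup B N) (g : G) (hg : g ∈ B) (μ' : N →* ℂˣ) (x : N) :
    extendByZero N (fn μ') (g⁻¹ * x * g) = fn (μ'.comp (cj hs g hg)) x := by
  have hmem : g⁻¹ * x * g ∈ N := (cj hs g hg x).2
  rw [extendByZero_mem N _ hmem]
  rfl

theorem rel_iff (hs : TIFrob.Setup B N) (g : G) (hg : g ∈ B) (μ μ' : N →* ℂˣ) :
    rel B μ μ' g ↔ μ = μ'.comp (cj hs g hg) := by
  constructor
  · rintro ⟨-, h⟩
    apply fn_inj
    funext x
    rw [← ext_cj hs g hg, h]
  · intro h
    refine ⟨hg, fun x => ?_⟩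
    rw [ext_cj hs g hg, ← h]

variable [Fintype G] [Fintype N]

/-- the induced character -/
noncomputable def Psi (μ : N →* ℂˣ) : G → ℂ := indFun N (fn μ)

theorem Psi_char (μ : N →* ℂˣ) : IsCharacter G (Psi μ) := char_indFun N (irr_char (fn_irr μ))

open Classical in
theorem sum_in (hs : TIFrob.Setup B N) (g : G) (hg : g ∈ B) (μ μ' : N →* ℂˣ) :
    ∑ x : N, fn μ x * conj (extendByZero N (fn μ') (g⁻¹ * x * g)) =
      if rel B μ μ' g then (Nat.card N : ℂ) else 0 := by
  have h1 : ∑ x : N, fn μ x * conj (extendByZero N (fn μ') (g⁻¹ * x * g)) =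
      (Nat.card N : ℂ) * classInner (fn μ) (fn (μ'.comp (cj hs g hg))) := by
    unfold classInner
    have h2 : (Nat.card N : ℂ) ≠ 0 := by exact_mod_cast Nat.card_pos.ne'
    rw [← mul_assoc, mul_inv_cancel₀ h2, one_mul]
    apply Finset.sum_congr rfl
    intro x _
    rw [ext_cj hs g hg]
  rw [h1, inner_fn]
  by_cases h : rel B μ μ' g
  · rw [if_pos h, if_pos ((rel_iff hs g hg μ μ').1 h), mul_one]
  · rw [if_neg h, if_neg (fun h' => h ((rel_iff hs g hg μ μ').2 h')), mul_zero]

theorem sum_out (hs : TIFrob.Setup B N) (g : G) (hg : g ∉ B) (μ μ' : N →* ℂˣ) :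
    ∑ x : N, fn μ x * conj (extendByZero N (fn μ') (g⁻¹ * x * g)) = 1 := by
  rw [Finset.sum_eq_single (1 : N)]
  · have : g⁻¹ * ((1 : N) : G) * g = ((1 : N) : G) := by simp
    rw [this, extendByZero_coe, fn_one, fn_one]; simp
  · intro x _ hx
    rw [extendByZero_not_mem, map_zero, mul_zero]
    intro h
    apply hg
    have := hs.ti g⁻¹ x x.2 (fun h' => hx (Subtype.ext h')) (by rwa [inv_inv])
    simpa using B.inv_mem this
  · intro h; exact absurd (Finset.mem_univ _) h

open Classical in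
theorem inner_Psi (hs : TIFrob.Setup B N) {n d : ℕ} (hN : Nat.card N = n)
    (hB : Nat.card B = n * d) (hG : Nat.card G = (n + 1) * (n * d)) (μ μ' : N →* ℂˣ) :
    (n : ℂ) * classInner (Psi μ) (Psi μ') =
      n * d + ((Finset.univ.filter (fun g : G => rel B μ μ' g)).card : ℂ) := by
  have hn0 : (n : ℂ) ≠ 0 := by
    rw [← hN]; exact_mod_cast Nat.card_pos.ne'
  unfold Psi
  rw [classInner_indFun_left N _ _ (indFun_isClassFunction N _)]
  unfold classInner
  rw [hN, ← mul_assoc, mul_inv_cancel₀ hn0, one_mul]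
  have key : ∀ x : N, fn μ x * conj (indFun N (fn μ') (x : G)) =
      (n : ℂ)⁻¹ * ∑ g : G, fn μ x * conj (extendByZero N (fn μ') (g⁻¹ * x * g)) := by
    intro x
    rw [indFun_apply, hN, map_mul, map_inv₀, Complex.conj_natCast, map_sum, Finset.mul_sum,
      Finset.mul_sum, Finset.mul_sum]
    apply Finset.sum_congr rfl
    intro g _
    ring
  rw [Finset.sum_congr rfl (fun x _ => key x), ← Finset.mul_sum, Finset.sum_comm]
  have hT : ∀ g : G, ∑ x : N, fn μ x * conj (extendByZero N (fn μ') (g⁻¹ * x * g)) =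
      (if rel B μ μ' g then (n : ℂ) else 0) + (if g ∈ B then 0 else 1) := by
    intro g
    by_cases hg : g ∈ B
    · rw [sum_in hs g hg, hN, if_pos hg, add_zero]
    · rw [sum_out hs g hg, if_neg hg, if_neg (fun h => hg h.1), zero_add]
  rw [Finset.sum_congr rfl (fun g _ => hT g), Finset.sum_add_distrib, Finset.sum_ite,
    Finset.sum_ite, Finset.sum_const_zero, Finset.sum_const_zero, Finset.sum_const,
    Finset.sum_const, add_zero, zero_add, nsmul_eq_mul, nsmul_eq_mul, mul_one]
  have hc : ((Finset.univ.filter (fun g : G => ¬ g ∈ B)).card : ℂ) = n * (n * d) := by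
    have h1 := Finset.card_filter_add_card_filter_not (s := (Finset.univ : Finset G)) (fun g : G => g ∈ B)
    have h2 : (Finset.univ.filter (fun g : G => g ∈ B)).card = Nat.card B := by
      rw [Nat.card_eq_fintype_card, Fintype.card_subtype]
    rw [h2, hB, Finset.card_univ, ← Nat.card_eq_fintype_card, hG] at h1
    have h3 : (Finset.univ.filter (fun g : G => ¬ g ∈ B)).card = n * (n * d) := by
      have : (n + 1) * (n * d) = n * d + n * (n * d) := by ring
      omega
    rw [h3]; push_cast; ring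
  rw [hc]
  field_simp
  ring

end Cfsg.Agent.Lib.Helper19.Suz
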