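import Cfsg.Agent.Lib.Helper19.SuzInd

/-! # Induced linear characters, part 2: stabilisers, conjugates, the Frobenius–Schur sum (helper19) -/

set_option autoImplicit false
set_option linter.unusedSectionVars false

namespace Cfsg.Agent.Lib.Helper19.Suz

open Cfsg Cfsg.Agent.Lib.Helper15 Cfsg.Agent.Lib.Helper6 Cfsg.Agent.Lib.Helper74

local notation "conj" => starRingEnd ℂ

variable {G : Type*} [Group G] {B N : Subgroup G}

theorem rel_self_iff [Finite G] (hs : TIFrob.Setup B N) (μ : N →* ℂˣ) (hμ : μ ≠ 1) (g : G) :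
    rel B μ μ g ↔ g ∈ N := by
  constructor
  · intro h
    by_contra hgN
    have hgB := h.1
    have h2 := (rel_iff hs g hgB μ μ).1 h
    apply hμ
    let f : N → N := fun x => cj hs g hgB x * x⁻¹
    have hinj : Function.Injective f := by
      intro x y hxy
      have h3 : g⁻¹ * (x : G) * g * (x : G)⁻¹ = g⁻¹ * (y : G) * g * (y : G)⁻¹ :=
        congrArg Subtype.val hxy
      by_contra hne
      have hne' : ((y⁻¹ * x : N) : G) ≠ 1 := by
        intro h4
        apply hne
        have : y⁻¹ * x = 1 := Subtype.ext h4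
        exact (inv_mul_eq_one.1 this).symm
      apply hgN
      apply hs.cent _ (y⁻¹ * x).2 hne'
      rw [Subgroup.mem_centralizer_singleton_iff]
      have h5 : (x : G) * g * (x : G)⁻¹ = (y : G) * g * (y : G)⁻¹ := by
        have := congrArg (fun w => g * w) h3
        simpa [mul_assoc] using this
      have h6 : (y : G)⁻¹ * (x : G) * g = g * ((y : G)⁻¹ * (x : G)) := by
        calc (y : G)⁻¹ * (x : G) * g = (y : G)⁻¹ * ((x : G) * g * (x : G)⁻¹) * (x : G) := by group
          _ = (y : G)⁻¹ * ((y : G) * g * (y : G)⁻¹) * (x : G) := by rw [h5]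
          _ = g * ((y : G)⁻¹ * (x : G)) := by group
      simpa using h6.symm
    have hsurj : Function.Surjective f := Finite.injective_iff_surjective.1 hinj
    ext w
    obtain ⟨x, rfl⟩ := hsurj w
    have h7 : μ (cj hs g hgB x) = μ x := by
      conv_rhs => rw [h2]
      rfl
    simp only [f, map_mul, map_inv, h7, mul_inv_cancel, MonoidHom.one_apply]
  · intro hg
    refine ⟨hs.le hg, fun x => ?_⟩
    have : g⁻¹ * (x : G) * g = (((⟨g, hg⟩ : N)⁻¹ * x * ⟨g, hg⟩ : N) : G) := rfl
    rw [this, extendByZero_coe]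
    unfold fn
    rw [map_mul, map_mul, map_inv, mul_comm, ← mul_assoc, mul_inv_cancel, one_mul]

variable [Fintype G] [Fintype N]

theorem Psi_eq_of_rel (hs : TIFrob.Setup B N) {μ μ' : N →* ℂˣ} {g : G} (h : rel B μ μ' g) :
    (Psi μ : G → ℂ) = Psi μ' := by
  have hw : ∀ w : G, extendByZero N (fn μ) w = extendByZero N (fn μ') (g⁻¹ * w * g) := by
    intro w
    by_cases hwN : w ∈ N
    · rw [extendByZero_mem N _ hwN]
      exact (h.2 ⟨w, hwN⟩).symm
    · rw [extendByZero_not_mem N _ hwN, extendByZero_not_mem]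
      intro h2
      apply hwN
      have := hs.normal g h.1 _ h2
      simpa [mul_assoc] using this
  funext y
  unfold Psi
  rw [indFun_apply, indFun_apply]
  congr 1
  apply Fintype.sum_equiv (Equiv.mulRight g)
  intro x
  rw [hw]
  congr 1
  simp [mul_assoc]

open Classical in
theorem norm_Psi (hs : TIFrob.Setup B N) {n d : ℕ} (hN : Nat.card N = n)
    (hB : Nat.card B = n * d) (hG : Nat.card G = (n + 1) * (n * d)) (μ : N →* ℂˣ) (hμ : μ ≠ 1) :
    classInner (Psi μ : G → ℂ) (Psi μ) = ((d + 1 : ℕ) : ℂ) := by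
  have hn0 : (n : ℂ) ≠ 0 := by
    rw [← hN]; exact_mod_cast Nat.card_pos.ne'
  have h1 := inner_Psi hs hN hB hG μ μ
  have h2 : (Finset.univ.filter (fun g : G => rel B μ μ g)).card = n := by
    rw [← hN, Nat.card_eq_fintype_card, Fintype.card_subtype]
    congr 1
    ext g
    simp only [Finset.mem_filter, Finset.mem_univ, true_and]
    exact rel_self_iff hs μ hμ g
  rw [h2] at h1
  apply mul_left_cancel₀ hn0
  rw [h1]; push_cast; ring

/-- The Frobenius–Schur sum of a class function. -/
theorem fs_sum (hs : TIFrob.Setup B N) {n d m : ℕ} (hN : Nat.card N = n)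
    (hB : Nat.card B = n * d) (hG : Nat.card G = (n + 1) * (n * d)) (hm : Odd m)
    (heven : ∀ g : G, g ^ m ≠ 1 → ∃ c : G, c⁻¹ * g * c ∈ N)
    (hodd : ∀ x ∈ N, x ^ m = 1 → x = 1) {X : G → ℂ} (hX : IsClassFunction G X) :
    ∑ g : G, X (g * g) =
      ∑ g : G, X g + ((n : ℂ) + 1) * (∑ y : N, X ((y : G) * y) - ∑ y : N, X y) := by
  classical
  have hn0 : (n : ℂ) ≠ 0 := by
    rw [← hN]; exact_mod_cast Nat.card_pos.ne'
  have hd0 : (d : ℂ) ≠ 0 := by
    have : 0 < Nat.card B := Nat.card_pos
    rw [hB] at this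
    have : 0 < d := Nat.pos_of_mul_pos_left this |> fun h => by
      rcases Nat.eq_zero_or_pos d with h0 | h0
      · subst h0; simp at this
      · exact h0
    exact_mod_cast this.ne'
  obtain ⟨r, hr⟩ := hm
  set F : G → ℂ := fun g => X (g * g) - X g with hF
  have hFc : IsClassFunction G F := by
    intro g h
    simp only [hF]
    have : h * g * h⁻¹ * (h * g * h⁻¹) = h * (g * g) * h⁻¹ := by group
    rw [this, hX, hX]
  set O := Finset.univ.filter (fun g : G => g ^ m = 1) with hO
  have memO : ∀ g : G, g ∈ O ↔ g ^ m = 1 := by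
    intro g; simp [hO]
  have s1 : ∑ g ∈ O, X (g * g) = ∑ g ∈ O, X g := by
    apply Finset.sum_nbij' (fun g => g * g) (fun g => g ^ (r + 1))
    · intro g hg
      rw [memO] at hg ⊢
      rw [← pow_two, ← pow_mul, mul_comm, pow_mul, hg, one_pow]
    · intro g hg
      rw [memO] at hg ⊢
      rw [← pow_mul, mul_comm, pow_mul, hg, one_pow]
    · intro g hg
      rw [memO] at hg
      show (g * g) ^ (r + 1) = g
      rw [← pow_two, ← pow_mul]
      have : 2 * (r + 1) = m + 1 := by omega
      rw [this, pow_succ, hg, one_mul]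
    · intro g hg
      rw [memO] at hg
      show g ^ (r + 1) * g ^ (r + 1) = g
      rw [← pow_add]
      have : r + 1 + (r + 1) = m + 1 := by omega
      rw [this, pow_succ, hg, one_mul]
    · intro g _; rfl
  set T : G → ℂ := indFun N (fun _ => (1 : ℂ)) with hT
  have hTc : IsClassFunction G T := indFun_isClassFunction N _
  have hrel : (N.relIndex B : ℂ) = d := by
    have h1 : N.relIndex B * Nat.card N = Nat.card B := by
      have := Subgroup.relIndex_mul_relIndex ⊥ N B bot_le hs.le
      rw [Subgroup.relIndex_bot_left, Subgroup.relIndex_bot_left] at this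
      rw [mul_comm]; exact this
    rw [hN, hB] at h1
    have hnpos : 0 < n := by rw [← hN]; exact Nat.card_pos
    have : N.relIndex B = d := by
      apply Nat.eq_of_mul_eq_mul_left hnpos
      rw [mul_comm, h1]
    rw [this]
  have T1 : ∀ g : G, g ∉ O → T g = d := by
    intro g hg
    rw [memO] at hg
    obtain ⟨c, hc⟩ := heven g hg
    have hne : c⁻¹ * g * c ≠ 1 := by
      intro h
      apply hg
      have : g = 1 := by
        have h2 : g = c * (c⁻¹ * g * c) * c⁻¹ := by group
        rw [h2, h]; group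
      rw [this, one_pow]
    have h2 : g = c * (c⁻¹ * g * c) * c⁻¹ := by group
    rw [h2, hTc, hT, hs.theta_apply hc hne, hrel]
  have T0 : ∀ g : G, g ∈ O → g ≠ 1 → T g = 0 := by
    intro g hg hg1
    rw [memO] at hg
    rw [hT, indFun_apply]
    rw [Finset.sum_eq_zero, mul_zero]
    intro x _
    apply extendByZero_not_mem
    intro h
    apply hg1
    have h3 : (x⁻¹ * g * x) ^ m = 1 := by
      have : x⁻¹ * g * x = x⁻¹ * g * x⁻¹⁻¹ := by rw [inv_inv]
      rw [this, conj_pow, hg]; group
    have h4 := hodd _ h h3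
    have h2 : g = x * (x⁻¹ * g * x) * x⁻¹ := by group
    rw [h2, h4]; group
  have hrec := classInner_indFun_right N (fun _ => (1 : ℂ)) F hFc
  unfold classInner at hrec
  rw [hN, hG] at hrec
  have s2 : ∑ g : G, F g * conj (indFun N (fun _ => (1 : ℂ)) g) = d * ∑ g ∈ Oᶜ, F g := by
    rw [← Finset.sum_add_sum_compl O, Finset.mul_sum]
    have z : ∑ g ∈ O, F g * conj (indFun N (fun _ => (1 : ℂ)) g) = 0 := by
      apply Finset.sum_eq_zero
      intro g hg
      by_cases hg1 : g = 1
      · subst hg1
        simp [hF]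
      · have := T0 g hg hg1
        rw [hT] at this
        rw [this, map_zero, mul_zero]
    rw [z, zero_add]
    apply Finset.sum_congr rfl
    intro g hg
    have := T1 g (Finset.mem_compl.1 hg)
    rw [hT] at this
    rw [this, Complex.conj_natCast, mul_comm]
  rw [s2] at hrec
  have s3 : ∑ g ∈ Oᶜ, F g = ((n : ℂ) + 1) * ∑ y : N, F y := by
    have e : ∑ x : N, F (x : G) * conj (1 : ℂ) = ∑ y : N, F y := by simp
    rw [e] at hrec
    push_cast at hrec
    field_simp at hrec
    linear_combination hrec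
  have s4 : ∑ g : G, F g = ((n : ℂ) + 1) * ∑ y : N, F y := by
    rw [← Finset.sum_add_sum_compl O, s3]
    have : ∑ g ∈ O, F g = 0 := by
      simp only [hF, Finset.sum_sub_distrib, s1, sub_self]
    rw [this, zero_add]
  simp only [hF, Finset.sum_sub_distrib] at s4
  linear_combination s4

end Cfsg.Agent.Lib.Helper19.Suz
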