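import Cfsg.Agent.Lib.Helper19.SuzCtx

/-! # The abstract Suzuki context: classes of induced characters (helper19) -/

set_option autoImplicit false
set_option linter.unusedSectionVars false

namespace Cfsg.Agent.Lib.Helper19.Suz

open Cfsg Cfsg.Agent.Lib.Helper15 Cfsg.Agent.Lib.Helper6 Cfsg.Agent.Lib.Helper74

local notation "conj" => starRingEnd ℂ

variable {G : Type*} [Group G] {B N Z : Subgroup G} {n d q m : ℕ} [Fintype G] [Fintype N]

theorem Ctx.inner_dichotomy (h : Ctx G B N Z n d q m) (μ μ' : N →* ℂˣ) :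
    (Psi μ : G → ℂ) = Psi μ' ∨ classInner (Psi μ : G → ℂ) (Psi μ') = d := by
  classical
  by_cases hex : ∃ g, rel B μ μ' g
  · obtain ⟨g, hg⟩ := hex
    exact Or.inl (Psi_eq_of_rel h.hs hg)
  · right
    have h1 := inner_Psi h.hs h.cardN h.cardB h.cardG μ μ'
    have h2 : (Finset.univ.filter (fun g : G => rel B μ μ' g)).card = 0 := by
      rw [Finset.card_eq_zero, Finset.filter_eq_empty_iff]
      intro g _ hg
      exact hex ⟨g, hg⟩
    rw [h2, Nat.cast_zero, add_zero] at h1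
    have : (n : ℂ) ≠ 0 := by exact_mod_cast h.npos.ne'
    exact mul_left_cancel₀ this h1

theorem Ctx.norm (h : Ctx G B N Z n d q m) (μ : N →* ℂˣ) (hμ : μ ≠ 1) :
    classInner (Psi μ : G → ℂ) (Psi μ) = q := by
  rw [norm_Psi h.hs h.cardN h.cardB h.cardG μ hμ, h.hq]

/-- the conjugate of a character in `MZ` -/
def Ctx.cjM (h : Ctx G B N Z n d q m) (μ : MZ (Z.subgroupOf N)) (g : G) (hg : g ∈ B) :
    MZ (Z.subgroupOf N) :=
  ⟨μ.1.comp (cj h.hs g hg), fun x hx => by
    rw [MonoidHom.comp_apply]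
    apply μ.2
    rw [Subgroup.mem_subgroupOf] at hx ⊢
    exact h.Zconj hg hx⟩

open Classical in
theorem Ctx.card_class (h : Ctx G B N Z n d q m) [Fintype (MZ (Z.subgroupOf N))]
    (μ₀ : MZ (Z.subgroupOf N)) (hμ₀ : μ₀.1 ≠ 1) :
    (Finset.univ.filter (fun μ : MZ (Z.subgroupOf N) =>
      (Psi μ.1 : G → ℂ) = Psi μ₀.1)).card = d := by
  have hn0 : (n : ℂ) ≠ 0 := by exact_mod_cast h.npos.ne'
  set t := Finset.univ.filter (fun g : G => g ∈ B) with ht
  have hdc := Finset.sum_card_bipartiteAbove_eq_sum_card_bipartiteBelow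
    (fun (μ : MZ (Z.subgroupOf N)) (g : G) => rel B μ.1 μ₀.1 g)
    (s := (Finset.univ : Finset (MZ (Z.subgroupOf N)))) (t := t)
  have hR : ∀ g ∈ t, (Finset.bipartiteBelow
      (fun (μ : MZ (Z.subgroupOf N)) (g : G) => rel B μ.1 μ₀.1 g) Finset.univ g).card = 1 := by
    intro g hg
    have hgB : g ∈ B := (Finset.mem_filter.1 hg).2
    rw [Finset.card_eq_one]
    refine ⟨h.cjM μ₀ g hgB, ?_⟩
    ext μ
    simp only [Finset.bipartiteBelow, Finset.mem_filter, Finset.mem_univ, true_and,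
      Finset.mem_singleton]
    rw [rel_iff h.hs g hgB]
    constructor
    · intro h'
      exact Subtype.ext h'
    · intro h'
      rw [h']; rfl
  have hL : ∀ μ : MZ (Z.subgroupOf N), (Finset.bipartiteAbove
      (fun (μ : MZ (Z.subgroupOf N)) (g : G) => rel B μ.1 μ₀.1 g) t μ).card =
      if (Psi μ.1 : G → ℂ) = Psi μ₀.1 then n else 0 := by
    intro μ
    have e1 : Finset.bipartiteAbove
        (fun (μ : MZ (Z.subgroupOf N)) (g : G) => rel B μ.1 μ₀.1 g) t μ =
        Finset.univ.filter (fun g : G => rel B μ.1 μ₀.1 g) := by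
      ext g
      simp only [Finset.bipartiteAbove, Finset.mem_filter, Finset.mem_univ, true_and, ht]
      exact ⟨fun h' => h'.2, fun h' => ⟨h'.1, h'⟩⟩
    rw [e1]
    split_ifs with hP
    · have h1 := inner_Psi h.hs h.cardN h.cardB h.cardG μ.1 μ₀.1
      rw [hP, h.norm μ₀.1 hμ₀, h.hq] at h1
      have h2 : ((Finset.univ.filter (fun g : G => rel B μ.1 μ₀.1 g)).card : ℂ) = n := by
        push_cast at h1
        linear_combination -h1
      exact_mod_cast h2
    · rw [Finset.card_eq_zero, Finset.filter_eq_empty_iff]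
      intro g _ hg
      exact hP (Psi_eq_of_rel h.hs hg)
  rw [Finset.sum_congr rfl (fun μ _ => hL μ), Finset.sum_congr rfl hR, Finset.sum_ite,
    Finset.sum_const_zero, add_zero, Finset.sum_const, Finset.sum_const, smul_eq_mul,
    smul_eq_mul, mul_one] at hdc
  have hcard : t.card = n * d := by
    rw [ht, ← h.cardB, Nat.card_eq_fintype_card, Fintype.card_subtype]
  rw [hcard, mul_comm] at hdc
  exact Nat.eq_of_mul_eq_mul_left h.npos hdc

open Classical in
theorem Ctx.sum_inner (h : Ctx G B N Z n d q m) [Fintype (MZ (Z.subgroupOf N))]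
    (X : G → ℂ) (hX : IsClassFunction G X) (xz : ℂ) (hxz : ∀ z ∈ Z, z ≠ 1 → X z = xz) :
    (q : ℂ) * ∑ μ : MZ (Z.subgroupOf N), classInner X (Psi μ.1 : G → ℂ) = X 1 + d * xz := by
  have hn0 : (n : ℂ) ≠ 0 := by exact_mod_cast h.npos.ne'
  haveI := h.normalZ
  have h1 : ∀ μ : MZ (Z.subgroupOf N), classInner X (Psi μ.1 : G → ℂ) =
      (n : ℂ)⁻¹ * ∑ x : N, X x * conj (((μ.1 x : ℂˣ) : ℂ)) := by
    intro μ
    unfold Psi
    rw [classInner_indFun_right N _ _ hX]
    unfold classInner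
    rw [h.cardN]
    rfl
  rw [Finset.sum_congr rfl (fun μ _ => h1 μ), ← Finset.mul_sum, Finset.sum_comm]
  have h2 : ∀ x : N, ∑ μ : MZ (Z.subgroupOf N), X x * conj (((μ.1 x : ℂˣ) : ℂ)) =
      if (x : G) ∈ Z then (Nat.card (MZ (Z.subgroupOf N)) : ℂ) * X x else 0 := by
    intro x
    rw [← Finset.mul_sum, ← map_sum, sum_MZ (Z.subgroupOf N) h.sq_sub x]
    by_cases hx : (x : G) ∈ Z
    · rw [if_pos hx, if_pos (Subgroup.mem_subgroupOf.2 hx), Complex.conj_natCast, mul_comm]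
    · rw [if_neg hx, if_neg (fun h' => hx (Subgroup.mem_subgroupOf.1 h')), map_zero, mul_zero]
  rw [Finset.sum_congr rfl (fun x _ => h2 x), Finset.sum_ite, Finset.sum_const_zero, add_zero,
    ← Finset.mul_sum]
  have c1 : (Finset.univ.filter (fun y : N => (y : G) ∈ Z)).card = q := by
    rw [← h.cardZ, ← Nat.card_congr (Subgroup.subgroupOfEquivOfLe h.ZN).toEquiv,
      Nat.card_eq_fintype_card, Fintype.card_subtype]
    rfl
  have h3 : ∑ x ∈ Finset.univ.filter (fun y : N => (y : G) ∈ Z), X x = X 1 + d * xz := by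
    have hmem : (1 : N) ∈ Finset.univ.filter (fun y : N => (y : G) ∈ Z) := by
      simp [Z.one_mem]
    rw [← Finset.add_sum_erase _ _ hmem]
    congr 1
    have : ∀ x ∈ (Finset.univ.filter (fun y : N => (y : G) ∈ Z)).erase 1, X (x : G) = xz := by
      intro x hx
      rw [Finset.mem_erase, Finset.mem_filter] at hx
      exact hxz x hx.2.2 (fun h' => hx.1 (Subtype.ext h'))
    rw [Finset.sum_congr rfl this, Finset.sum_const, Finset.card_erase_of_mem hmem, c1, h.hq,
      nsmul_eq_mul]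
    simp
  rw [h3]
  have h4 := card_MZ (Z.subgroupOf N) h.sq_sub
  rw [Nat.card_congr (Subgroup.subgroupOfEquivOfLe h.ZN).toEquiv, h.cardZ, h.cardN] at h4
  have h5 : (Nat.card (MZ (Z.subgroupOf N)) : ℂ) * q = n := by exact_mod_cast h4
  rw [← h5] at hn0 ⊢
  have h6 : (Nat.card (MZ (Z.subgroupOf N)) : ℂ) ≠ 0 := left_ne_zero_of_mul hn0
  have h7 : (q : ℂ) ≠ 0 := right_ne_zero_of_mul hn0
  field_simp

theorem Ctx.inner_theta (h : Ctx G B N Z n d q m) (μ : N →* ℂˣ) {θ : G → ℂ}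
    (hθ : IsClassFunction G θ) (hθ1 : θ 1 = n) (hθ0 : ∀ x ∈ N, x ≠ 1 → θ x = 0) :
    classInner (Psi μ : G → ℂ) θ = 1 := by
  have hn0 : (n : ℂ) ≠ 0 := by exact_mod_cast h.npos.ne'
  unfold Psi
  rw [classInner_indFun_left N _ _ hθ]
  unfold classInner
  rw [h.cardN, Finset.sum_eq_single (1 : N)]
  · beta_reduce
    rw [fn_one, Subgroup.coe_one, hθ1, Complex.conj_natCast, one_mul, inv_mul_cancel₀ hn0]
  · intro x _ hx
    beta_reduce
    rw [hθ0 x x.2 (fun h' => hx (Subtype.ext h')), map_zero, mul_zero]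
  · intro h'; exact absurd (Finset.mem_univ _) h'

end Cfsg.Agent.Lib.Helper19.Suz
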