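import Cfsg.Agent.Lib.Helper19.SuzMain
import Cfsg.Agent.Lib.Helper19.SuzComb
import Cfsg.Agent.Lib.Helper80.Inflation

/-! # The abstract Suzuki context: `|N| = q²` (helper19) -/

set_option autoImplicit false
set_option linter.unusedSectionVars false

namespace Cfsg.Agent.Lib.Helper19.Suz

open Cfsg Cfsg.Agent.Lib.Helper15 Cfsg.Agent.Lib.Helper6 Cfsg.Agent.Lib.Helper74

local notation "conj" => starRingEnd ℂ

variable {G : Type*} [Group G] {B N Z : Subgroup G} {n d q m : ℕ} [Fintype G] [Fintype N]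

/-- the trivial character as an element of `MZ` -/
def oneM (Z' : Subgroup N) : MZ Z' := ⟨1, fun _ _ => rfl⟩

theorem Psi_one_ne (μ : N →* ℂˣ) (hμ : μ ≠ 1) : (Psi (1 : N →* ℂˣ) : G → ℂ) ≠ Psi μ := by
  classical
  intro h
  have h1 : ∑ g : G, (Psi (1 : N →* ℂˣ) : G → ℂ) g = 0 := by
    rw [h]; exact Ctx.sum_Psi_G μ hμ
  rw [sum_eq_of_inner] at h1
  unfold Psi at h1
  rw [classInner_indFun_left N _ _ (fun _ _ => rfl), ← fn_one', inner_fn, if_pos rfl, mul_one] at h1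
  have : (Nat.card G : ℂ) ≠ 0 := by exact_mod_cast Nat.card_pos.ne'
  exact this h1

open Classical in
theorem Ctx.two_classes (h : Ctx G B N Z n d q m) [IsSimpleGroup G]
    [Fintype (MZ (Z.subgroupOf N))] (hne : n ≠ q ^ 2)
    (X : IrrCharacter G) (hfs : fsInd (X : G → ℂ) = 1)
    (μ₀ : MZ (Z.subgroupOf N)) (hμ₀ : μ₀.1 ≠ 1) (hX : classInner (Psi μ₀.1 : G → ℂ) X = 1) :
    ∃ μ : MZ (Z.subgroupOf N), μ.1 ≠ 1 ∧ classInner (Psi μ.1 : G → ℂ) X ≠ 0 ∧
      (Psi μ.1 : G → ℂ) ≠ Psi μ₀.1 := by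
  by_contra hcon
  push Not at hcon
  have hXc : IsClassFunction G (X : G → ℂ) := irr_cf X.2
  have hGne : (Nat.card G : ℂ) ≠ 0 := by exact_mod_cast Nat.card_pos.ne'
  have hn0 : (n : ℂ) ≠ 0 := by exact_mod_cast h.npos.ne'
  have hd0 : (d : ℂ) ≠ 0 := by exact_mod_cast h.dpos.ne'
  have hn1 : (n : ℂ) + 1 ≠ 0 := by exact_mod_cast (Nat.succ_ne_zero n)
  -- `X` is not trivial
  have hX1 : (X : G → ℂ) ≠ fun _ => 1 := by
    intro h'
    rw [h'] at hX
    have h2 := Ctx.sum_Psi_G (G := G) μ₀.1 hμ₀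
    rw [sum_eq_of_inner, hX, mul_one] at h2
    exact hGne h2
  have hX0 : classInner (X : G → ℂ) (fun _ => 1) = 0 :=
    irr_inner_ne X.2 isIrrCharacter_one hX1
  obtain ⟨z₀, hz₀, hz₀1⟩ := h.exists_z
  have hxz : ∀ z ∈ Z, z ≠ 1 → (X : G → ℂ) z = (X : G → ℂ) z₀ := by
    intro z hz hz1
    obtain ⟨c, hc⟩ := isConj_iff.1 (h.conjZ z hz hz1 z₀ hz₀ hz₀1)
    rw [← hc, hXc]
  set a₁ := classInner (X : G → ℂ) (Psi (1 : N →* ℂˣ)) with ha₁
  -- first equation
  have E1 := h.sum_inner (X : G → ℂ) hXc _ hxz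
  have hf : ∀ μ : MZ (Z.subgroupOf N), classInner (X : G → ℂ) (Psi μ.1 : G → ℂ) =
      (if μ = oneM _ then a₁ else 0) + (if (Psi μ.1 : G → ℂ) = Psi μ₀.1 then 1 else 0) := by
    intro μ
    by_cases hμ : μ = oneM _
    · subst hμ
      have e0 : (Psi (oneM (Z.subgroupOf N)).1 : G → ℂ) = Psi (1 : N →* ℂˣ) := rfl
      rw [if_pos rfl, e0, if_neg (Psi_one_ne μ₀.1 hμ₀), add_zero]
    · have hμ1 : μ.1 ≠ 1 := fun h' => hμ (Subtype.ext h')
      rw [if_neg hμ, zero_add, inner_comm_of_char (irr_char X.2) (Psi_char μ.1)]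
      by_cases hP : (Psi μ.1 : G → ℂ) = Psi μ₀.1
      · rw [if_pos hP, hP, hX]
      · rw [if_neg hP]
        by_contra h0
        exact hP (hcon μ hμ1 h0)
  rw [Finset.sum_congr rfl (fun μ _ => hf μ), Finset.sum_add_distrib, Finset.sum_ite_eq'
    Finset.univ (oneM _), if_pos (Finset.mem_univ _), Finset.sum_boole, h.card_class μ₀ hμ₀] at E1
  -- second equation
  have E2 := fs_sum h.hs h.cardN h.cardB h.cardG h.hm h.heven h.hodd hXc
  have e3 : ∑ g : G, (X : G → ℂ) (g * g) = (Nat.card G : ℂ) := by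
    unfold fsInd at hfs
    field_simp at hfs
    exact hfs
  have e4 : ∑ y : N, (X : G → ℂ) y = n * a₁ := by
    rw [sum_eq_of_inner, h.cardN, ha₁]
    conv_rhs => rw [show (Psi (1 : N →* ℂˣ) : G → ℂ) = indFun N (fn 1) from rfl]
    rw [classInner_indFun_right N _ _ hXc, fn_one']
  rw [e3, sum_eq_of_inner (X : G → ℂ), hX0, mul_zero, zero_add, e4, h.sum_sq _ _ hxz,
    h.cardG] at E2
  push_cast at E2
  have E2' : (n : ℂ) * d = q * (X : G → ℂ) 1 + ((n : ℂ) - q) * (X : G → ℂ) z₀ - n * a₁ := by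
    apply mul_left_cancel₀ hn1
    exact E2
  have hqd : (q : ℂ) = d + 1 := by rw [h.hq]; push_cast; ring
  have hnq : (n : ℂ) - q ^ 2 ≠ 0 := by
    intro h'
    apply hne
    have : (n : ℂ) = ((q ^ 2 : ℕ) : ℂ) := by push_cast; linear_combination h'
    exact_mod_cast this
  have e5 : ((n : ℂ) - q ^ 2) * (a₁ + d - (X : G → ℂ) z₀) = 0 := by
    rw [hqd] at E1 E2' ⊢
    linear_combination E2' - (d + 1 : ℂ) * E1
  have e6 : (X : G → ℂ) z₀ = a₁ + d := by
    rcases mul_eq_zero.1 e5 with h' | h'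
    · exact absurd h' hnq
    · linear_combination -h'
  have e7 : (X : G → ℂ) z₀ = (X : G → ℂ) 1 := by
    rw [hqd] at E1
    rw [e6] at E1 ⊢
    linear_combination E1
  -- kernel
  have hK := Cfsg.Agent.Lib.Helper80.charKer_normal (irr_char X.2)
  rcases hK.eq_bot_or_eq_top with hb | ht
  · have : z₀ ∈ Cfsg.Agent.Lib.Helper80.charKer (X : G → ℂ) (irr_char X.2) := e7
    rw [hb, Subgroup.mem_bot] at this
    exact hz₀1 this
  · have hall : ∀ g : G, (X : G → ℂ) g = (X : G → ℂ) 1 := by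
      intro g
      have : g ∈ Cfsg.Agent.Lib.Helper80.charKer (X : G → ℂ) (irr_char X.2) := by
        rw [ht]; exact Subgroup.mem_top g
      exact this
    have h9 := sum_eq_of_inner (X : G → ℂ)
    rw [hX0, mul_zero, Finset.sum_congr rfl (fun g _ => hall g), Finset.sum_const,
      Finset.card_univ, ← Nat.card_eq_fintype_card, nsmul_eq_mul] at h9
    rcases mul_eq_zero.1 h9 with h' | h'
    · exact hGne h'
    · exact irr_one_ne_zero X.2 h'

end Cfsg.Agent.Lib.Helper19.Suz
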