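import Cfsg.Agent.Lib.Helper19.SuzMain2

/-! # The abstract Suzuki context: the final count (helper19) -/

set_option autoImplicit false
set_option linter.unusedSectionVars false

namespace Cfsg.Agent.Lib.Helper19.Suz

open Cfsg Cfsg.Agent.Lib.Helper15 Cfsg.Agent.Lib.Helper6 Cfsg.Agent.Lib.Helper74

local notation "conj" => starRingEnd ℂ

variable {G : Type*} [Group G] {B N Z : Subgroup G} {n d q m : ℕ} [Fintype G] [Fintype N]

theorem Ctx.main (h : Ctx G B N Z n d q m) [IsSimpleGroup G] (hne : n ≠ q ^ 2)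
    {θ : G → ℂ} (hθ : IsIrrCharacter G θ) (hθ1 : θ 1 = n) (hθ0 : ∀ x ∈ N, x ≠ 1 → θ x = 0) :
    n ≤ q * (d * q + 1) := by
  classical
  have := Fintype.ofFinite (IrrCharacter G)
  have := Fintype.ofFinite (MZ (Z.subgroupOf N))
  haveI := h.normalZ
  set M := MZ (Z.subgroupOf N) with hM
  let S : M → Finset (IrrCharacter G) := fun μ =>
    Finset.univ.filter (fun χ : IrrCharacter G => classInner (Psi μ.1 : G → ℂ) χ ≠ 0)
  set T : Finset M := Finset.univ.filter (fun μ : M => μ.1 ≠ 1) with hT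
  have memT : ∀ μ : M, μ ∈ T ↔ μ.1 ≠ 1 := by intro μ; simp [hT]
  have ht : ∀ μ : M, μ.1 ≠ 1 → ∀ χ : IrrCharacter G, classInner (Psi μ.1 : G → ℂ) χ = 0 ∨
      (classInner (Psi μ.1 : G → ℂ) χ = 1 ∧ fsInd (χ : G → ℂ) = 1) := fun μ hμ χ =>
    tight (Psi_char μ.1) q (h.norm μ.1 hμ) (h.fsInd_Psi μ hμ) χ
  have hval : ∀ μ : M, μ.1 ≠ 1 → ∀ χ : IrrCharacter G,
      classInner (Psi μ.1 : G → ℂ) χ = if χ ∈ S μ then 1 else 0 := by
    intro μ hμ χ
    by_cases hχ : χ ∈ S μ
    · rw [if_pos hχ]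
      rcases ht μ hμ χ with h0 | h1
      · exact absurd h0 (Finset.mem_filter.1 hχ).2
      · exact h1.1
    · rw [if_neg hχ]
      by_contra h0
      exact hχ (Finset.mem_filter.2 ⟨Finset.mem_univ _, h0⟩)
  have hinter : ∀ μ μ' : M, μ.1 ≠ 1 → μ'.1 ≠ 1 →
      classInner (Psi μ.1 : G → ℂ) (Psi μ'.1) = ((S μ ∩ S μ').card : ℂ) := by
    intro μ μ' hμ hμ'
    rw [Cfsg.Agent.Lib.Helper3.classInner_eq_sum_coeff (char_cf (Psi_char μ.1))]
    have : ∀ χ : IrrCharacter G, classInner (Psi μ.1 : G → ℂ) χ *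
        classInner (χ : G → ℂ) (Psi μ'.1) = if χ ∈ S μ ∩ S μ' then 1 else 0 := by
      intro χ
      rw [inner_comm_of_char (irr_char χ.2) (Psi_char μ'.1), hval μ hμ, hval μ' hμ']
      by_cases h1 : χ ∈ S μ <;> by_cases h2 : χ ∈ S μ' <;> simp [h1, h2]
    rw [Finset.sum_congr rfl (fun χ _ => this χ), Finset.sum_boole]
    congr 2
    ext χ; simp
  have hcardS : ∀ μ : M, μ.1 ≠ 1 → (S μ).card = q := by
    intro μ hμ
    have := hinter μ μ hμ hμ
    rw [h.norm μ.1 hμ, Finset.inter_self] at this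
    exact_mod_cast this.symm
  have hPsi_of_S : ∀ μ μ' : M, μ.1 ≠ 1 → μ'.1 ≠ 1 → S μ = S μ' →
      (Psi μ.1 : G → ℂ) = Psi μ'.1 := by
    intro μ μ' hμ hμ' hS
    rcases h.inner_dichotomy μ.1 μ'.1 with h1 | h1
    · exact h1
    · exfalso
      rw [hinter μ μ' hμ hμ', hS, Finset.inter_self, hcardS μ' hμ'] at h1
      have : q = d := by exact_mod_cast h1
      have := h.hq
      omega
  have hsun : (T.image S).card ≤ q := by
    apply sunflower (T.image S) q (by have := h.hq; omega)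
    · intro A hA
      obtain ⟨μ, hμ, rfl⟩ := Finset.mem_image.1 hA
      exact hcardS μ ((memT μ).1 hμ)
    · intro A hA A' hA' hAA'
      obtain ⟨μ, hμ, rfl⟩ := Finset.mem_image.1 hA
      obtain ⟨μ', hμ', rfl⟩ := Finset.mem_image.1 hA'
      rw [memT] at hμ hμ'
      rcases h.inner_dichotomy μ.1 μ'.1 with h1 | h1
      · exfalso
        apply hAA'
        simp only [S, h1]
      · rw [hinter μ μ' hμ hμ'] at h1
        have : (S μ ∩ S μ').card = d := by exact_mod_cast h1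
        rw [this, h.hq]
    · intro A hA X hX
      obtain ⟨μ, hμ, rfl⟩ := Finset.mem_image.1 hA
      rw [memT] at hμ
      have h1 : classInner (Psi μ.1 : G → ℂ) X = 1 ∧ fsInd (X : G → ℂ) = 1 := by
        rcases ht μ hμ X with h0 | h1
        · exact absurd h0 (Finset.mem_filter.1 hX).2
        · exact h1
      obtain ⟨μ', hμ', hne0, hPne⟩ := h.two_classes hne X h1.2 μ hμ h1.1
      refine ⟨S μ', Finset.mem_image.2 ⟨μ', (memT μ').2 hμ', rfl⟩, ?_,
        Finset.mem_filter.2 ⟨Finset.mem_univ _, hne0⟩⟩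
      intro hS
      exact hPne (hPsi_of_S μ' μ hμ' hμ hS)
    · intro A hA
      obtain ⟨μ, hμ, rfl⟩ := Finset.mem_image.1 hA
      show (⟨θ, hθ⟩ : IrrCharacter G) ∈ S μ
      refine Finset.mem_filter.2 ⟨Finset.mem_univ _, ?_⟩
      rw [h.inner_theta μ.1 (irr_cf hθ) hθ1 hθ0]
      exact one_ne_zero
  have hfib : T.card ≤ d * (T.image S).card := by
    apply Finset.card_le_mul_card_image
    intro A hA
    obtain ⟨μ₀, hμ₀, rfl⟩ := Finset.mem_image.1 hA
    rw [memT] at hμ₀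
    rw [← h.card_class μ₀ hμ₀]
    apply Finset.card_le_card
    intro μ hμ
    rw [Finset.mem_filter, memT] at hμ
    exact Finset.mem_filter.2 ⟨Finset.mem_univ _, hPsi_of_S μ μ₀ hμ.1 hμ₀ hμ.2⟩
  have hTcard : T.card + 1 = Nat.card M := by
    have h1 := Finset.card_filter_add_card_filter_not (s := (Finset.univ : Finset M))
      (fun μ : M => μ.1 ≠ 1)
    have h2 : (Finset.univ.filter (fun μ : M => ¬ μ.1 ≠ 1)) = {oneM _} := by
      ext μ
      simp only [Finset.mem_filter, Finset.mem_univ, true_and, not_not, Finset.mem_singleton]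
      exact ⟨fun h' => Subtype.ext h', fun h' => by rw [h']; rfl⟩
    rw [h2, Finset.card_singleton, Finset.card_univ, ← Nat.card_eq_fintype_card] at h1
    exact h1
  have h4 := card_MZ (Z.subgroupOf N) h.sq_sub
  rw [Nat.card_congr (Subgroup.subgroupOfEquivOfLe h.ZN).toEquiv, h.cardZ, h.cardN] at h4
  rw [← h4, ← hTcard, mul_comm]
  apply Nat.mul_le_mul_left
  have : d * (T.image S).card ≤ d * q := Nat.mul_le_mul_left _ hsun
  omega

end Cfsg.Agent.Lib.Helper19.Suz
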