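import Cfsg.Agent.Lib.Helper19.SuzMain3
import Cfsg.Agent.Lib.Helper91.SuzZasK
import Cfsg.Agent.Lib.Helper6.Zas6
import Cfsg.Agent.S1137
import Cfsg.Agent.S1138
import Cfsg.Agent.S0157

/-! # Zassenhaus groups with a non-abelian regular 2-kernel: the kernel has order `q²` (helper19) -/

set_option autoImplicit false
set_option linter.unusedSectionVars false

namespace Cfsg.Agent.Lib.Helper19.Suz

open Cfsg MulAction Cfsg.Agent.Lib.Helper15 Cfsg.Agent.Lib.Helper6 Cfsg.Agent.Lib.Helper6.Zas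
  Cfsg.Agent.Lib.Helper91.SuzZas

variable {G Ω : Type*} [Group G] [Finite G] [MulAction G Ω] [Fintype Ω]

theorem ctx_of_zas (hZ : Cfsg.IsZassenhausGroup G Ω) {a b : Ω} (hab : a ≠ b) (U : Subgroup G)
    (hUle : U ≤ stabilizer G a) (hU2 : IsPGroup 2 U) (hUna : ∃ u v : U, u * v ≠ v * u)
    (hreg : ∀ y z : Ω, y ≠ a → z ≠ a → ∃! u : U, (u : G) • y = z) :
    Ctx G (stabilizer G a) U ((Subgroup.center U).map U.subtype) (Nat.card U)
      (Nat.card ↥(stabilizer G a ⊓ stabilizer G b)) (Nat.card (Subgroup.center U))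
      ((Nat.card U + 1) * Nat.card ↥(stabilizer G a ⊓ stabilizer G b)) := by
  classical
  have : Fintype G := Fintype.ofFinite G
  have hb := base_of_zassenhaus hZ
  obtain ⟨hUfix, hUcard, hn, hodd⟩ := kernel_facts hZ hab U hUle hU2 hreg
  obtain ⟨hfix, hinU, hfree, hnorm, htrans, hcard⟩ := invol_facts hZ hab U hUle hU2 hreg
  obtain ⟨hSuz, hcyc, hq⟩ := suz_kernel hZ hab U hUle hU2 hUna hreg
  obtain ⟨h37a, h37b⟩ := Cfsg.Agent.S1137.result hSuz
  obtain ⟨h38a, h38b, h38c, h38d⟩ := Cfsg.Agent.S1138.result hSuz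
  have hset := kernel_setup hb hab U hUle hUcard hUfix
  have hG : Nat.card G = (Nat.card U + 1) *
      (Nat.card U * Nat.card ↥(stabilizer G a ⊓ stabilizer G b)) := by
    rw [Nat.card_eq_fintype_card, hb.card_group hab rfl hUcard.symm, mul_assoc]
  have memZ : ∀ x : G, x ∈ (Subgroup.center U).map U.subtype ↔
      ∃ hx : x ∈ U, (⟨x, hx⟩ : U) ∈ Subgroup.center U := by
    intro x
    rw [Subgroup.mem_map]
    constructor
    · rintro ⟨y, hy, rfl⟩
      exact ⟨y.2, hy⟩
    · rintro ⟨hx, hy⟩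
      exact ⟨⟨x, hx⟩, hy, rfl⟩
  have hmodd : Odd ((Nat.card U + 1) * Nat.card ↥(stabilizer G a ⊓ stabilizer G b)) := by
    rw [hUcard]; exact hn.mul hodd
  obtain ⟨j, hj⟩ := (IsPGroup.iff_card.1 hU2)
  refine
    { hs := hset
      cardN := rfl
      cardB := ?_
      cardG := hG
      cardZ := ?_
      hq := hq
      ZN := Subgroup.map_subtype_le _
      Zcent := ?_
      sq_mem := ?_
      sq_one := ?_
      conjZ := ?_
      hm := hmodd
      heven := ?_
      hodd := ?_ }
  · have := hb.card_stab1 hab rfl hUcard.symm a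
    rw [← this, Nat.card_eq_fintype_card, Fintype.card_subtype]
    rfl
  · exact Nat.card_congr (Subgroup.equivMapOfInjective _ _ U.subtype_injective).symm.toEquiv
  · intro z hz x hx
    obtain ⟨hzU, hzc⟩ := (memZ z).1 hz
    have := Subgroup.mem_center_iff.1 hzc ⟨x, hx⟩
    exact (congrArg Subtype.val this).symm
  · intro x hx
    exact (memZ _).2 ⟨U.mul_mem hx hx, h38a ⟨x, hx⟩⟩
  · intro x hx
    constructor
    · intro hxx
      by_cases hx1 : x = 1
      · subst hx1; exact Subgroup.one_mem _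
      · have := (h37a ⟨x, hx⟩).1 ⟨fun h => hx1 (congrArg Subtype.val h), Subtype.ext hxx⟩
        exact (memZ x).2 ⟨hx, this.1⟩
    · intro hz
      obtain ⟨hzU, hzc⟩ := (memZ x).1 hz
      exact congrArg Subtype.val (h37b _ hzc)
  · intro x hx hx1 y hy hy1
    obtain ⟨hxU, hxc⟩ := (memZ x).1 hx
    obtain ⟨hyU, hyc⟩ := (memZ y).1 hy
    exact hb.invol_isConj hab hodd (fun s h1 h2 => swap_inverts_of_odd_degree hZ hn hab hodd s h1 h2)
      x y hx1 (congrArg Subtype.val (h37b _ hxc)) hy1 (congrArg Subtype.val (h37b _ hyc))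
  · intro g hg
    -- `g` has even order
    have hev : Even (orderOf g) := by
      by_contra hodd'
      rw [Nat.not_even_iff_odd] at hodd'
      apply hg
      apply orderOf_dvd_iff_pow_eq_one.1
      have h1 : orderOf g ∣ Nat.card G := orderOf_dvd_natCard g
      rw [hG, hj] at h1
      have h2 : Nat.Coprime (orderOf g) (2 ^ j) :=
        Nat.Coprime.pow_right _ (Nat.coprime_two_right.2 hodd')
      have h3 : (2 ^ j + 1) * (2 ^ j * Nat.card ↥(stabilizer G a ⊓ stabilizer G b)) =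
          2 ^ j * ((2 ^ j + 1) * Nat.card ↥(stabilizer G a ⊓ stabilizer G b)) := by ring
      rw [h3] at h1
      rw [hj]
      exact h2.dvd_of_dvd_mul_left h1
    obtain ⟨k, hk⟩ := hev
    have hkpos : 0 < k := by
      have := orderOf_pos g
      omega
    set t := g ^ k with ht
    have ht1 : t ≠ 1 := by
      intro h
      have := orderOf_le_of_pow_eq_one hkpos h
      omega
    have ht2 : t * t = 1 := by
      rw [ht, ← pow_add, ← hk, pow_orderOf_eq_one]
    obtain ⟨c₀, hc₀, hc₀u⟩ := hfix t ht1 ht2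
    have hcomm : g * t = t * g := by
      rw [ht, ← pow_succ', ← pow_succ]
    have hgc : g • c₀ = c₀ := by
      apply hc₀u
      rw [← mul_smul, ← hcomm, mul_smul, hc₀]
    obtain ⟨c, hc⟩ : ∃ c : G, c • a = c₀ := by
      by_cases hac : c₀ = a
      · exact ⟨1, by rw [one_smul, hac]⟩
      · obtain ⟨e, he⟩ : ∃ e : Ω, e ≠ c₀ := ⟨a, fun h => hac h.symm⟩
        obtain ⟨c, hc1, -⟩ := hb.two hab (Ne.symm he)
        exact ⟨c, hc1⟩
    have hca : c⁻¹ • c₀ = a := by rw [inv_smul_eq_iff, hc]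
    refine ⟨c, ?_⟩
    have ht'U : c⁻¹ * t * c ∈ U := by
      apply hinU
      · intro h
        apply ht1
        have h2 : t = c * (c⁻¹ * t * c) * c⁻¹ := by group
        rw [h2, h]; group
      · calc c⁻¹ * t * c * (c⁻¹ * t * c) = c⁻¹ * (t * t) * c := by group
          _ = 1 := by rw [ht2]; group
      · rw [mul_smul, mul_smul, hc, hc₀, hca]
    have ht'1 : c⁻¹ * t * c ≠ 1 := by
      intro h
      apply ht1
      have h2 : t = c * (c⁻¹ * t * c) * c⁻¹ := by group
      rw [h2, h]; group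
    apply hset.cent _ ht'U ht'1
    rw [Subgroup.mem_centralizer_singleton_iff]
    calc c⁻¹ * g * c * (c⁻¹ * t * c) = c⁻¹ * (g * t) * c := by group
      _ = c⁻¹ * (t * g) * c := by rw [hcomm]
      _ = c⁻¹ * t * c * (c⁻¹ * g * c) := by group
  · intro x hx hxm
    obtain ⟨k, hk⟩ := hU2 ⟨x, hx⟩
    have hk' : x ^ 2 ^ k = 1 := by
      have := congrArg Subtype.val hk
      simpa using this
    have h1 : orderOf x ∣ 2 ^ k := orderOf_dvd_of_pow_eq_one hk'
    have h2 : orderOf x ∣ _ := orderOf_dvd_of_pow_eq_one hxm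
    have h3 : Nat.Coprime (2 ^ k)
        ((Nat.card U + 1) * Nat.card ↥(stabilizer G a ⊓ stabilizer G b)) :=
      Nat.Coprime.pow_left _ (Nat.coprime_two_left.2 hmodd)
    have h4 : orderOf x = 1 := Nat.eq_one_of_dvd_coprimes h3 h1 h2
    exact orderOf_eq_one_iff.1 h4

end Cfsg.Agent.Lib.Helper19.Suz
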