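import Cfsg.Agent.Lib.Helper19.SuzZas

/-! # Zassenhaus groups with a non-abelian regular 2-kernel: `|U| = q²` (helper19) -/

set_option autoImplicit false
set_option linter.unusedSectionVars false

namespace Cfsg.Agent.Lib.Helper19.Suz

open Cfsg MulAction Cfsg.Agent.Lib.Helper15 Cfsg.Agent.Lib.Helper6 Cfsg.Agent.Lib.Helper6.Zas
  Cfsg.Agent.Lib.Helper91.SuzZas

variable {G Ω : Type*} [Group G] [Finite G] [MulAction G Ω] [Fintype Ω]

theorem card_kernel_sq (hZ : Cfsg.IsZassenhausGroup G Ω) [IsSimpleGroup G] {a b : Ω} (hab : a ≠ b)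
    (U : Subgroup G)
    (hUle : U ≤ stabilizer G a) (hU2 : IsPGroup 2 U) (hUna : ∃ u v : U, u * v ≠ v * u)
    (hreg : ∀ y z : Ω, y ≠ a → z ≠ a → ∃! u : U, (u : G) • y = z) :
    Nat.card U = Nat.card (Subgroup.center U) ^ 2 := by
  classical
  have : Fintype G := Fintype.ofFinite G
  have : Fintype U := Fintype.ofFinite U
  have hb := base_of_zassenhaus hZ
  obtain ⟨hUfix, hUcard, hn, hodd⟩ := kernel_facts hZ hab U hUle hU2 hreg
  obtain ⟨hSuz, hcyc, hq⟩ := suz_kernel hZ hab U hUle hU2 hUna hreg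
  obtain ⟨h38a, h38b, h38c, h38d⟩ := Cfsg.Agent.S1138.result hSuz
  have hctx := ctx_of_zas hZ hab U hUle hU2 hUna hreg
  rcases h38c with h2 | h3
  · exact h2
  exfalso
  have hdpos := hctx.dpos
  set q := Nat.card (Subgroup.center U) with hqdef
  set d := Nat.card ↥(stabilizer G a ⊓ stabilizer G b) with hddef
  have hq2 : 2 ≤ q := by omega
  haveI : IsPretransitive G Ω := ⟨fun x y => by
    by_cases hxy : x = y
    · exact ⟨1, by rw [one_smul, hxy]⟩
    · obtain ⟨g, hg, -⟩ := hb.two hxy (Ne.symm hxy)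
      exact ⟨g, hg⟩⟩
  have hX : 2 ≤ Nat.card Ω := by
    rw [Nat.card_eq_fintype_card, ← hUcard]
    have : 0 < Nat.card U := Nat.card_pos
    omega
  have hθ := (Cfsg.Agent.S0157.result (G := G) Ω hX).2 hZ.2.1
  have hne : Nat.card U ≠ q ^ 2 := by
    rw [h3]
    intro h
    have : q ^ 2 * q = q ^ 2 * 1 := by rw [mul_one, ← pow_succ]; exact h
    have h5 := Nat.eq_of_mul_eq_mul_left (by positivity) this
    omega
  have hmain := hctx.main hne hθ ?_ ?_
  · rw [h3, hq] at hmain
    have e : (d + 1) ^ 3 = (d + 1) * ((d + 1) ^ 2) := by ring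
    rw [e] at hmain
    have h6 := Nat.le_of_mul_le_mul_left hmain (by omega)
    nlinarith
  · have : Nat.card (fixedBy Ω (1 : G)) = Nat.card U + 1 := by
      rw [hUcard, ← Nat.card_eq_fintype_card]
      apply Nat.card_congr
      exact (Equiv.subtypeUnivEquiv (fun x => by simp))
    rw [this]; push_cast; ring
  · intro x hx hx1
    have : fixedBy Ω x = {a} := by
      ext c
      rw [mem_fixedBy, Set.mem_singleton_iff]
      exact ⟨fun h => hUfix x hx hx1 c h, fun h => by rw [h]; exact hUle hx⟩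
    rw [this]
    simp

end Cfsg.Agent.Lib.Helper19.Suz
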