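import Cfsg.Agent.Lib.Helper19.SuzZas2
import Cfsg.Agent.Lib.Helper6.Zas5

/-! # Zassenhaus groups with a non-abelian regular 2-kernel: the order (helper19) -/

set_option autoImplicit false
set_option linter.unusedSectionVars false

namespace Cfsg.Agent.Lib.Helper19.Suz

open Cfsg MulAction Cfsg.Agent.Lib.Helper15 Cfsg.Agent.Lib.Helper6 Cfsg.Agent.Lib.Helper6.Zas
  Cfsg.Agent.Lib.Helper91.SuzZas

theorem odd_of_five_dvd {k : ℕ} (h : 5 ∣ (2 ^ k) ^ 2 + 1) : Odd k := by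
  by_contra hk
  rw [Nat.not_odd_iff_even] at hk
  obtain ⟨i, rfl⟩ := hk
  have e : (2 ^ (i + i)) ^ 2 = 16 ^ i := by
    rw [← pow_mul, show (i + i) * 2 = 4 * i by ring, pow_mul]; norm_num
  rw [e] at h
  have h1 : 16 ^ i % 5 = 1 := by
    rw [Nat.pow_mod]; norm_num
  omega

theorem not_dvd_block {q d : ℕ} (hq : 2 ≤ q) (hd : 0 < d)
    (h : (q + 1) * (q * d) ∣ (q ^ 2 + 1) * (q ^ 2 * d)) : False := by
  have e : (q ^ 2 + 1) * (q ^ 2 * d) = ((q ^ 2 + 1) * q) * (q * d) := by ring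
  rw [e] at h
  have h1 : (q + 1) ∣ (q ^ 2 + 1) * q := Nat.dvd_of_mul_dvd_mul_right (by positivity) h
  have h2 : Nat.Coprime (q + 1) q := by simp
  have h3 : (q + 1) ∣ q ^ 2 + 1 := h2.dvd_of_dvd_mul_right h1
  have h4 : (q + 1) ∣ (q + 1) * (q - 1) := Dvd.intro _ rfl
  have h5 : q ^ 2 + 1 = (q + 1) * (q - 1) + 2 := by
    obtain ⟨r, rfl⟩ : ∃ r, q = r + 1 := ⟨q - 1, by omega⟩
    simp only [Nat.add_sub_cancel]
    ring
  rw [h5] at h3
  have h6 : (q + 1) ∣ 2 := (Nat.dvd_add_right h4).1 h3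
  have := Nat.le_of_dvd (by norm_num) h6
  omega

variable {G Ω : Type*} [Group G] [Finite G] [MulAction G Ω] [Fintype Ω]

/-- The numerical structure of a simple Zassenhaus group with non-abelian regular 2-kernel. -/
theorem suzuki_numbers (hZ : Cfsg.IsZassenhausGroup G Ω) [IsSimpleGroup G] {a b : Ω} (hab : a ≠ b)
    (U : Subgroup G)
    (hUle : U ≤ stabilizer G a) (hU2 : IsPGroup 2 U) (hUna : ∃ u v : U, u * v ≠ v * u)
    (hreg : ∀ y z : Ω, y ≠ a → z ≠ a → ∃! u : U, (u : G) • y = z)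
    (hfive : 5 ∣ Nat.card Ω ∨ ∃ L : Subgroup G, Nat.card L =
      (Nat.card (Subgroup.center U) + 1) * (Nat.card (Subgroup.center U) *
        Nat.card ↥(stabilizer G a ⊓ stabilizer G b))) :
    ∃ m : ℕ, 1 ≤ m ∧ Nat.card (Subgroup.center U) = 2 ^ (2 * m + 1) ∧
      Nat.card U = (2 ^ (2 * m + 1)) ^ 2 ∧
      Nat.card ↥(stabilizer G a ⊓ stabilizer G b) = 2 ^ (2 * m + 1) - 1 ∧
      Fintype.card Ω = (2 ^ (2 * m + 1)) ^ 2 + 1 ∧
      Nat.card G = (2 ^ (2 * m + 1)) ^ 2 * ((2 ^ (2 * m + 1)) ^ 2 + 1) * (2 ^ (2 * m + 1) - 1) := by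
  classical
  have hb := base_of_zassenhaus hZ
  obtain ⟨hUfix, hUcard, hn, hodd⟩ := kernel_facts hZ hab U hUle hU2 hreg
  obtain ⟨hSuz, hcyc, hq⟩ := suz_kernel hZ hab U hUle hU2 hUna hreg
  have hctx := ctx_of_zas hZ hab U hUle hU2 hUna hreg
  have hsq := card_kernel_sq hZ hab U hUle hU2 hUna hreg
  have hd1 := one_lt_card_stab2 hZ hab
  have hcG := hctx.cardG
  set q := Nat.card (Subgroup.center U) with hqdef
  set d := Nat.card ↥(stabilizer G a ⊓ stabilizer G b) with hddef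
  obtain ⟨k, hk⟩ : ∃ k, q = 2 ^ k := by
    have : IsPGroup 2 (Subgroup.center U) := hU2.to_subgroup _
    exact IsPGroup.iff_card.1 this
  have hkodd : Odd k := by
    rcases hfive with h5 | ⟨L, hL⟩
    · apply odd_of_five_dvd
      rw [Nat.card_eq_fintype_card, ← hUcard, hsq, hk] at h5
      exact h5
    · exfalso
      have h1 : Nat.card L ∣ Nat.card G := Subgroup.card_subgroup_dvd_card L
      rw [hL, hcG, hsq] at h1
      exact not_dvd_block (by omega) (by omega) h1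
  obtain ⟨m, hm⟩ := hkodd
  have hm1 : 1 ≤ m := by
    by_contra h0
    have : m = 0 := by omega
    subst this
    rw [hm] at hk
    norm_num at hk
    omega
  refine ⟨m, hm1, ?_, ?_, ?_, ?_, ?_⟩
  · rw [hk, hm]
  · rw [hsq, hk, hm]
  · rw [← hm, ← hk]; omega
  · rw [← hUcard, hsq, hk, hm]
  · rw [hcG, hsq, ← hm, ← hk]
    have : d = q - 1 := by omega
    rw [this]; ring

end Cfsg.Agent.Lib.Helper19.Suz
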