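import Cfsg.Agent.Lib.Helper19.SuzZas3
import Cfsg.Agent.Lib.Helper20.SuzZasFive

/-! # Zassenhaus groups with a non-abelian regular 2-kernel: final form (helper19) -/

set_option autoImplicit false
set_option linter.unusedSectionVars false

namespace Cfsg.Agent.Lib.Helper19.Suz

open Cfsg MulAction Cfsg.Agent.Lib.Helper6.Zas Cfsg.Agent.Lib.Helper91.SuzZas

variable {G Ω : Type*} [Group G] [Finite G] [MulAction G Ω] [Fintype Ω]

/-- Suzuki: the numerical structure of a simple Zassenhaus group with a non-abelian regular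
normal 2-subgroup of the point stabiliser. -/
theorem suzuki_numbers' (hZ : Cfsg.IsZassenhausGroup G Ω) [IsSimpleGroup G] {a b : Ω}
    (hab : a ≠ b) (U : Subgroup G)
    (hUle : U ≤ stabilizer G a) (hU2 : IsPGroup 2 U) (hUna : ∃ u v : U, u * v ≠ v * u)
    (hreg : ∀ y z : Ω, y ≠ a → z ≠ a → ∃! u : U, (u : G) • y = z) :
    ∃ m : ℕ, 1 ≤ m ∧ Nat.card (Subgroup.center U) = 2 ^ (2 * m + 1) ∧
      Nat.card U = (2 ^ (2 * m + 1)) ^ 2 ∧
      Nat.card ↥(stabilizer G a ⊓ stabilizer G b) = 2 ^ (2 * m + 1) - 1 ∧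
      Fintype.card Ω = (2 ^ (2 * m + 1)) ^ 2 + 1 ∧
      Nat.card G = (2 ^ (2 * m + 1)) ^ 2 * ((2 ^ (2 * m + 1)) ^ 2 + 1) * (2 ^ (2 * m + 1) - 1) := by
  obtain ⟨hSuz, -, -⟩ := suz_kernel hZ hab U hUle hU2 hUna hreg
  exact suzuki_numbers hZ hab U hUle hU2 hUna hreg
    (Cfsg.Agent.Lib.Helper20.SuzZas.suz_five hZ hab U hUle hU2 hreg
      (Cfsg.Agent.S1137.result hSuz).1 (Cfsg.Agent.S1138.result hSuz).1)

end Cfsg.Agent.Lib.Helper19.Suz
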