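import Mathlib
import Cfsg.Agent.Lib.Helper19.TT

set_option autoImplicit false

/-! 3-transposition groups: the classes `V_d` (same commuting set) and `O_2(G)`. -/

namespace Cfsg.Agent.Lib.Helper19

open Cfsg

variable {G : Type*} [Group G] {D : Set G}

/-- `v` and `d` commute with the same members of `D` -/
def SameV (D : Set G) (v d : G) : Prop := ∀ e ∈ D, Commute v e ↔ Commute d e

theorem SameV.refl (d : G) : SameV D d d := fun _ _ => Iff.rfl

theorem SameV.symm {v d : G} (h : SameV D v d) : SameV D d v := fun e he => (h e he).symm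

theorem SameV.trans {a b c : G} (h1 : SameV D a b) (h2 : SameV D b c) : SameV D a c :=
  fun e he => (h1 e he).trans (h2 e he)

theorem SameV.commute {v d : G} (h : SameV D v d) (hd : d ∈ D) : Commute v d :=
  (h d hd).mpr (Commute.refl d)

theorem SameV.conj (hconj : ∀ g : G, ∀ d ∈ D, g * d * g⁻¹ ∈ D) {v d : G} (h : SameV D v d) (g : G) :
    SameV D (g * v * g⁻¹) (g * d * g⁻¹) := by
  intro e he
  have he' : g⁻¹ * e * g ∈ D := by
    have := hconj g⁻¹ e he
    rwa [inv_inv] at this
  have e1 : e = g * (g⁻¹ * e * g) * g⁻¹ := by group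
  rw [e1, Commute.conj_iff, Commute.conj_iff]
  exact h _ he'

/-- for `v ∈ V_d` the element `d v` maps every `e ∈ D` into `V_e` -/
theorem sameV_conj_mul (hG : IsThreeTranspositionGroup D) {d v e : G} (hd : d ∈ D) (hv : v ∈ D)
    (h : SameV D v d) (he : e ∈ D) : SameV D ((d * v) * e * (d * v)⁻¹) e := by
  obtain ⟨hD, hconj, -⟩ := hG
  by_cases hc : Commute d e
  · have hc' : Commute v e := (h e he).mpr hc
    have : (d * v) * e * (d * v)⁻¹ = e := by
      have h1 : Commute (d * v) e := hc.mul_left hc'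
      rw [h1.eq, mul_assoc, mul_inv_cancel, mul_one]
    rw [this]
    exact SameV.refl e
  · have hc' : ¬ Commute v e := fun hh => hc ((h e he).mp hh)
    have hb1 := tt_braid hD hd he hc
    have hb2 := tt_braid hD hv he hc'
    have hd2 := tt_sq hD hd
    have hdi := tt_inv hD hd
    have hvi := tt_inv hD hv
    have hei := tt_inv hD he
    have e1 : (d * e) * v * (d * e)⁻¹ = (d * v) * e * (d * v)⁻¹ := by
      rw [mul_inv_rev, mul_inv_rev, hdi, hvi, hei]
      calc d * e * v * (e * d) = d * (e * v * e) * d := by simp only [mul_assoc]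
        _ = d * (v * e * v) * d := by rw [hb2]
        _ = d * v * e * (v * d) := by simp only [mul_assoc]
    have e2 : (d * e) * d * (d * e)⁻¹ = e := by
      rw [mul_inv_rev, hdi, hei]
      calc d * e * d * (e * d) = d * (e * d * e) * d := by simp only [mul_assoc]
        _ = d * (d * e * d) * d := by rw [hb1]
        _ = (d * d) * e * (d * d) := by simp only [mul_assoc]
        _ = e := by rw [hd2, one_mul, mul_one]
    have := h.conj hconj (d * e)
    rwa [e1, e2] at this

/-- the generating set of `U_e` -/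
def Uset (D : Set G) (e : G) : Set G := {w | ∃ a ∈ D, SameV D a e ∧ w = e * a}

/-- `U_e = ⟨e a : a ∈ V_e⟩` -/
def Ugrp (D : Set G) (e : G) : Subgroup G := Subgroup.closure (Uset D e)

theorem mul_mem_Ugrp {e a : G} (ha : a ∈ D) (h : SameV D a e) : e * a ∈ Ugrp D e :=
  Subgroup.subset_closure ⟨a, ha, h, rfl⟩

theorem mul_mem_Ugrp' (hD : IsThreeTranspositionSet D) {e a b : G} (he : e ∈ D) (ha : a ∈ D) (hb : b ∈ D)
    (h1 : SameV D a e) (h2 : SameV D b e) : a * b ∈ Ugrp D e := by
  have h3 := mul_mem (mul_mem_Ugrp ha h1) (mul_mem_Ugrp hb h2)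
  have hc : Commute a e := h1.commute he
  have : e * a * (e * b) = a * b := by
    calc e * a * (e * b) = e * (a * e) * b := by simp only [mul_assoc]
      _ = e * (e * a) * b := by rw [hc.eq]
      _ = (e * e) * a * b := by simp only [mul_assoc]
      _ = a * b := by rw [tt_sq hD he, one_mul]
  rwa [this] at h3

theorem Ugrp_isPGroup (hD : IsThreeTranspositionSet D) {e : G} (he : e ∈ D) : IsPGroup 2 (Ugrp D e) := by
  have hcomm : ∀ x ∈ Uset D e, ∀ y ∈ Uset D e, x * y = y * x := by
    rintro _ ⟨a, ha, h1, rfl⟩ _ ⟨b, hb, h2, rfl⟩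
    have c1 : Commute a e := h1.commute he
    have c2 : Commute b e := h2.commute he
    have c3 : Commute a b := (h1 b hb).mpr c2.symm
    exact (((Commute.refl e).mul_right c2.symm).mul_left (c1.mul_right c3)).eq
  have hsq : ∀ x ∈ Ugrp D e, x * x = 1 := by
    have hcl := Subgroup.isMulCommutative_closure hcomm
    intro x hx
    induction hx using Subgroup.closure_induction with
    | mem x hx =>
      obtain ⟨a, ha, h1, rfl⟩ := hx
      have c1 : Commute a e := h1.commute he
      calc e * a * (e * a) = e * (a * e) * a := by simp only [mul_assoc]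
        _ = e * (e * a) * a := by rw [c1.eq]
        _ = (e * e) * (a * a) := by simp only [mul_assoc]
        _ = 1 := by rw [tt_sq hD he, tt_sq hD ha, one_mul]
    | one => simp
    | mul x y hx hy ihx ihy =>
      have hxy : x * y = y * x :=
        congrArg Subtype.val (hcl.is_comm.comm ⟨x, hx⟩ ⟨y, hy⟩)
      calc x * y * (x * y) = x * (y * x) * y := by simp only [mul_assoc]
        _ = x * (x * y) * y := by rw [hxy]
        _ = (x * x) * (y * y) := by simp only [mul_assoc]
        _ = 1 := by rw [ihx, ihy, one_mul]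
    | inv x hx ih =>
      have : x⁻¹ = x := inv_eq_of_mul_eq_one_left ih
      rw [this, ih]
  intro x
  refine ⟨1, ?_⟩
  ext
  simpa [pow_two] using hsq x x.2

theorem Ugrp_map_conj_le (hconj : ∀ g : G, ∀ d ∈ D, g * d * g⁻¹ ∈ D) (g e : G) :
    (Ugrp D e).map (MulAut.conj g).toMonoidHom ≤ Ugrp D (g * e * g⁻¹) := by
  unfold Ugrp
  rw [MonoidHom.map_closure]
  apply Subgroup.closure_mono
  rintro _ ⟨_, ⟨a, ha, h, rfl⟩, rfl⟩
  refine ⟨g * a * g⁻¹, hconj g a ha, h.conj hconj g, ?_⟩
  simp [MulAut.conj_apply, mul_assoc]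

theorem Ugrp_congr {e f : G} (hD : IsThreeTranspositionSet D) (he : e ∈ D) (hf : f ∈ D) (h : SameV D f e) :
    Ugrp D f ≤ Ugrp D e := by
  unfold Ugrp
  rw [Subgroup.closure_le]
  rintro _ ⟨a, ha, h1, rfl⟩
  exact mul_mem_Ugrp' hD he hf ha h (h1.trans h)

theorem Ugrp_le_normalizer (hG : IsThreeTranspositionGroup D) {d e : G} (hd : d ∈ D) (he : e ∈ D) :
    Ugrp D d ≤ Subgroup.normalizer (Ugrp D e : Set G) := by
  obtain ⟨hD, hconj, hgen⟩ := hG
  have hG : IsThreeTranspositionGroup D := ⟨hD, hconj, hgen⟩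
  unfold Ugrp
  rw [Subgroup.closure_le]
  rintro _ ⟨v, hv, h, rfl⟩
  have hc : Commute v d := h.commute hd
  have hu2 : (d * v) * (d * v) = 1 := by
    calc d * v * (d * v) = d * (v * d) * v := by simp only [mul_assoc]
      _ = d * (d * v) * v := by rw [hc.eq]
      _ = (d * d) * (v * v) := by simp only [mul_assoc]
      _ = 1 := by rw [tt_sq hD hd, tt_sq hD hv, one_mul]
  have huinv : (d * v)⁻¹ = d * v := inv_eq_of_mul_eq_one_left hu2
  have key : ∀ y ∈ Ugrp D e, (d * v) * y * (d * v)⁻¹ ∈ Ugrp D e := by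
    intro y hy
    have h1 : (d * v) * y * (d * v)⁻¹ ∈ Ugrp D ((d * v) * e * (d * v)⁻¹) :=
      Ugrp_map_conj_le hconj (d * v) e ⟨y, hy, rfl⟩
    exact Ugrp_congr hD he (hconj _ e he) (sameV_conj_mul hG hd hv h he) h1
  rw [SetLike.mem_coe, Subgroup.mem_normalizer_iff]
  intro y
  refine ⟨key y, fun hy => ?_⟩
  have := key _ hy
  have e1 : d * v * (d * v * y * (d * v)⁻¹) * (d * v)⁻¹ = y := by
    rw [huinv]
    calc d * v * (d * v * y * (d * v)) * (d * v) = (d * v * (d * v)) * y * (d * v * (d * v)) := by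
          simp only [mul_assoc]
      _ = y := by rw [hu2, one_mul, mul_one]
  rwa [e1] at this

/-- `U_d ≤ O_2(G)` -/
theorem Ugrp_le_pCore [Finite G] (hG : IsThreeTranspositionGroup D) {d : G} (hd : d ∈ D) :
    Ugrp D d ≤ pCore 2 G := by
  obtain ⟨hD, hconj, hgen⟩ := hG
  have hG : IsThreeTranspositionGroup D := ⟨hD, hconj, hgen⟩
  let N : Subgroup G := ⨆ e : D, Ugrp D (e : G)
  have hN2 : IsPGroup 2 N :=
    isPGroup_iSup_of_normalizing (fun e : D => Ugrp D (e : G)) (fun e => Ugrp_isPGroup hD e.2)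
      (fun a b => Ugrp_le_normalizer hG a.2 b.2)
  have hNn : N.Normal := by
    constructor
    intro n hn g
    have h1 : N.map (MulAut.conj g).toMonoidHom ≤ N := by
      rw [Subgroup.map_iSup]
      apply iSup_le
      intro e
      exact le_trans (Ugrp_map_conj_le hconj g e)
        (le_iSup (fun e : D => Ugrp D (e : G)) ⟨g * e * g⁻¹, hconj g e e.2⟩)
    exact h1 ⟨n, hn, rfl⟩
  exact le_trans (le_iSup (fun e : D => Ugrp D (e : G)) ⟨d, hd⟩) (Lib.Lead.le_pCore hNn hN2)

/-- members of `D` congruent modulo `O_2(G)` have the same commuting set -/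
theorem commute_of_mem_pCore (hG : IsThreeTranspositionGroup D) {a b e : G} (ha : a ∈ D) (hb : b ∈ D)
    (he : e ∈ D) (hab : a⁻¹ * b ∈ pCore 2 G) (hc : Commute a e) : Commute b e := by
  obtain ⟨hD, hconj, hgen⟩ := hG
  by_contra hbe
  have hbe' : ¬ Commute e b := fun h => hbe h.symm
  have h3 := tt_cube hD he hb hbe'
  have hai := tt_inv hD ha
  have hbi := tt_inv hD hb
  have hei := tt_inv hD he
  have hn : (pCore 2 G).Normal := Lib.Lead.pCore_normal' 2 G
  rw [hai] at hab
  -- `e (ab) e⁻¹ (ab)⁻¹ = a (eb)² a⁻¹`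
  have h1 : e * (a * b) * e⁻¹ * (a * b)⁻¹ ∈ pCore 2 G := mul_mem (hn.conj_mem _ hab e) (inv_mem hab)
  have h2 : e * (a * b) * e⁻¹ * (a * b)⁻¹ = a * ((e * b) * (e * b)) * a⁻¹ := by
    rw [mul_inv_rev, hai, hbi, hei]
    calc e * (a * b) * e * (b * a) = (e * a) * b * e * b * a := by simp only [mul_assoc]
      _ = (a * e) * b * e * b * a := by rw [hc.eq]
      _ = a * (e * b * (e * b)) * a := by simp only [mul_assoc]
  rw [h2] at h1
  have h4 : (e * b) * (e * b) ∈ pCore 2 G := by
    have := hn.conj_mem _ h1 a⁻¹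
    have e1 : a⁻¹ * (a * (e * b * (e * b)) * a⁻¹) * a⁻¹⁻¹ = e * b * (e * b) := by group
    rwa [e1] at this
  have h5 : ((e * b) * (e * b)) ^ 3 = 1 := by
    rw [← pow_two, ← pow_mul, mul_comm, pow_mul, h3, one_pow]
  have h6 := eq_one_of_pow_three_of_isPGroup_two (Lib.Lead.pCore_isPGroup 2 G) h4 h5
  exact hbe' (tt_commute_of_sq hD he hb (by rw [pow_two]; exact h6))

theorem sameV_of_mem_pCore (hG : IsThreeTranspositionGroup D) {v d : G} (hv : v ∈ D) (hd : d ∈ D)
    (h : d⁻¹ * v ∈ pCore 2 G) : SameV D v d := by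
  intro e he
  refine ⟨fun hc => commute_of_mem_pCore hG hv hd he ?_ hc, fun hc => commute_of_mem_pCore hG hd hv he h hc⟩
  have := inv_mem h
  rwa [mul_inv_rev, inv_inv] at this

/-- for `v ∈ V_d` and `e` not commuting with `d`, an element of `U_e` conjugates `d` to `v` -/
theorem exists_conj_of_sameV (hG : IsThreeTranspositionGroup D) {d v e : G} (hd : d ∈ D) (hv : v ∈ D)
    (he : e ∈ D) (h : SameV D v d) (hde : ¬ Commute d e) :
    ∃ g ∈ Ugrp D e, g * d * g⁻¹ = v := by
  have hs := sameV_conj_mul hG hd hv h he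
  obtain ⟨hD, hconj, hgen⟩ := hG
  have hve : ¬ Commute v e := fun hh => hde ((h e he).mp hh)
  have hc : Commute v d := h.commute hd
  have hd2 := tt_sq hD hd
  have hv2 := tt_sq hD hv
  have he2 := tt_sq hD he
  have hdi := tt_inv hD hd
  have hvi := tt_inv hD hv
  have hei := tt_inv hD he
  have hb1 := tt_braid hD hd he hde
  have hb2 := tt_braid hD hv he hve
  refine ⟨((d * v) * e * (d * v)⁻¹) * e, ?_, ?_⟩
  · exact mul_mem_Ugrp' hD he (hconj _ e he) he hs (SameV.refl e)
  · have h2 : d * v * d = v := by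
      calc d * v * d = d * (v * d) := by rw [mul_assoc]
        _ = d * (d * v) := by rw [hc.eq]
        _ = v := by rw [← mul_assoc, hd2, one_mul]
    have hg : (d * v) * e * (d * v)⁻¹ * e = d * v * e * v * d * e := by
      rw [mul_inv_rev, hdi, hvi]; simp only [mul_assoc]
    have hginv : (d * v * e * v * d * e)⁻¹ = e * d * v * e * v * d := by
      simp only [mul_inv_rev, hdi, hvi, hei, mul_assoc]
    rw [hg, hginv]
    calc d * v * e * v * d * e * d * (e * d * v * e * v * d)
        = d * v * e * v * d * (e * d * e) * d * v * e * v * d := by simp only [mul_assoc]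
      _ = d * v * e * v * d * (d * e * d) * d * v * e * v * d := by rw [hb1]
      _ = d * v * e * v * (d * d) * e * (d * d) * v * e * v * d := by simp only [mul_assoc]
      _ = d * v * e * v * e * v * e * v * d := by rw [hd2]; simp only [mul_one]
      _ = d * v * (e * v * e) * v * e * v * d := by simp only [mul_assoc]
      _ = d * v * (v * e * v) * v * e * v * d := by rw [hb2]
      _ = d * (v * v) * e * (v * v) * e * v * d := by simp only [mul_assoc]
      _ = d * (e * e) * v * d := by rw [hv2]; simp only [mul_one, mul_assoc]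
      _ = d * v * d := by rw [he2, mul_one]
      _ = v := h2

end Cfsg.Agent.Lib.Helper19
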