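import Mathlib
import Cfsg.Agent.Lib.Helper19.ZasData
import Cfsg.Agent.Lib.Helper19.PSLCore

set_option autoImplicit false

/-! Zassenhaus groups of degree `n + 1` with two point stabilisers of even order `(n - 1) / 2`. -/

namespace Cfsg.Agent.Lib.Helper19

open MulAction Cfsg.Agent.Lib.Helper6.Zas

variable {G Ω : Type*} [Group G] [MulAction G Ω] {a b : Ω} {K : Subgroup G}

theorem swap_invol_of_half (hb : Base G Ω) [Finite G] [Fintype Ω] (hab : a ≠ b)
    (heven : Even (Nat.card ↥(stabilizer G a ⊓ stabilizer G b)))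
    (hd : 2 * Nat.card ↥(stabilizer G a ⊓ stabilizer G b) ≤ Fintype.card Ω - 2) :
    Fintype.card Ω - 2 = 2 * Nat.card ↥(stabilizer G a ⊓ stabilizer G b) ∧
      ∀ g : G, g • a = b → g • b = a → g * g = 1 := by
  classical
  set H : Subgroup G := MulAction.stabilizer G a ⊓ MulAction.stabilizer G b with hH
  have key := fun c hca hcb => hb.exists_invol_fix_swap hab heven c hca hcb
  choose! T hT2 hTc hTa hTb using key
  set S : Finset Ω := Finset.univ \ {a, b} with hS
  have hScard : S.card = Fintype.card Ω - 2 := by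
    rw [hS, Finset.card_univ_sdiff, Finset.card_pair hab]
  have hmemS : ∀ c, c ∈ S ↔ c ≠ a ∧ c ≠ b := by
    intro c
    simp [hS]
  have hHpos : 0 < Nat.card H := Nat.card_pos
  rw [← hScard] at hd ⊢
  obtain ⟨c0, hc0⟩ : S.Nonempty := by
    rw [← Finset.card_pos]; omega
  have hc0' := (hmemS c0).1 hc0
  have : Fintype H := Fintype.ofFinite H
  let T' : Ω → H := fun c => if h : c ∈ S then ⟨T c0 * T c, by
      have hc := (hmemS c).1 h
      constructor
      · show (T c0 * T c) • a = a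
        rw [mul_smul, hTa c hc.1 hc.2, hTb c0 hc0'.1 hc0'.2]
      · show (T c0 * T c) • b = b
        rw [mul_smul, hTb c hc.1 hc.2, hTa c0 hc0'.1 hc0'.2]⟩ else 1
  have h1 := Finset.card_le_mul_card_image (f := T') S 2 (by
    intro y _
    by_contra hlt
    push Not at hlt
    obtain ⟨x1, h1, x2, h2, x3, h3, h12, h13, h23⟩ := Finset.two_lt_card.1 hlt
    rw [Finset.mem_filter] at h1 h2 h3
    have hT : ∀ x x', x ∈ S → x' ∈ S → T' x = T' x' → T x = T x' := by
      intro x x' hx hx' he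
      simp only [T', hx, hx', dif_pos] at he
      exact mul_left_cancel (congrArg Subtype.val he)
    have e12 := hT x1 x2 h1.1 h2.1 (h1.2.trans h2.2.symm)
    have e13 := hT x1 x3 h1.1 h3.1 (h1.2.trans h3.2.symm)
    have m1 := (hmemS x1).1 h1.1
    have m2 := (hmemS x2).1 h2.1
    have m3 := (hmemS x3).1 h3.1
    have hone : T x1 = 1 := hb.three (T x1) x1 x2 x3 h12 h23 h13 (hTc x1 m1.1 m1.2)
      (e12 ▸ hTc x2 m2.1 m2.2) (e13 ▸ hTc x3 m3.1 m3.2)
    have := hTa x1 m1.1 m1.2
    rw [hone, one_smul] at this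
    exact hab this)
  have h2 : (S.image T').card ≤ Nat.card H := by
    rw [Nat.card_eq_fintype_card]
    exact Finset.card_le_univ _
  have h3 : (S.image T').card = Nat.card H := by omega
  have h4 : S.image T' = Finset.univ := by
    apply Finset.eq_univ_of_card
    rw [h3, Nat.card_eq_fintype_card]
  refine ⟨by omega, ?_⟩
  intro g hga hgb
  have hmem : (⟨T c0 * g, by
      constructor
      · show (T c0 * g) • a = a
        rw [mul_smul, hga, hTb c0 hc0'.1 hc0'.2]
      · show (T c0 * g) • b = b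
        rw [mul_smul, hgb, hTa c0 hc0'.1 hc0'.2]⟩ : H) ∈ S.image T' := by
    rw [h4]; exact Finset.mem_univ _
  obtain ⟨c, hc, hcg⟩ := Finset.mem_image.mp hmem
  simp only [T', hc, dif_pos] at hcg
  have h5 : T c = g := mul_left_cancel (congrArg Subtype.val hcg)
  have hc' := (hmemS c).1 hc
  rw [← h5]
  exact hT2 c hc'.1 hc'.2

theorem psl_of_half (z : ZData G Ω a b K) [Finite G] [Fintype Ω]
    (heven : Even (Nat.card ↥(stabilizer G a ⊓ stabilizer G b)))
    (hd : 2 * Nat.card ↥(stabilizer G a ⊓ stabilizer G b) ≤ Fintype.card Ω - 2) :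
    ∃ (F : Type) (_ : Field F) (_ : Fintype F), Fintype.card F + 1 = Fintype.card Ω ∧
      ringChar F ≠ 2 ∧ Nonempty (G ≃* Matrix.ProjectiveSpecialLinearGroup (Fin 2) F) := by
  classical
  have hb := z.base
  have hab := z.hab
  have : FaithfulSMul G Ω := ⟨fun {g g'} h => by
    have : g'⁻¹ * g = 1 := hb.faithful _ (fun c => by rw [mul_smul, h c, inv_smul_smul])
    exact (inv_mul_eq_one.mp this).symm⟩
  obtain ⟨hcard, hsw⟩ := swap_invol_of_half hb hab heven hd
  set H : Subgroup G := MulAction.stabilizer G a ⊓ MulAction.stabilizer G b with hH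
  have hK := z.card_K
  rw [Nat.card_eq_fintype_card] at hK
  have : Fact (Nat.Prime 2) := ⟨Nat.prime_two⟩
  obtain ⟨j, hj⟩ := exists_prime_orderOf_dvd_card' (G := H) 2 heven.two_dvd
  have hj1 : (j : G) ≠ 1 := by
    intro h
    have : j = 1 := Subtype.ext h
    rw [this, orderOf_one] at hj
    omega
  have hj2 : (j : G) * j = 1 := by
    have : j ^ 2 = 1 := by rw [← hj]; exact pow_orderOf_eq_one j
    have h2 := congrArg Subtype.val this
    simpa [pow_two] using h2
  obtain ⟨u, hua, hub⟩ := hb.two hab hab.symm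
  have huu := hsw u hua hub
  have huinv : u⁻¹ = u := inv_eq_of_mul_eq_one_left huu
  have hud : ∀ d ∈ H, u * d * u⁻¹ = d⁻¹ := by
    intro d hd
    have h1 := hsw (u * d) (by rw [mul_smul, mem_stabilizer_iff.mp hd.1, hua])
      (by rw [mul_smul, mem_stabilizer_iff.mp hd.2, hub])
    rw [huinv, eq_inv_iff_mul_eq_one]
    calc u * d * u * d = u * d * (u * d) := by group
      _ = 1 := h1
  have hHc : ∀ c ∈ H, ∀ d ∈ H, c * d = d * c := by
    intro x hx y hy
    have h1 := hud _ (H.mul_mem (H.inv_mem hy) (H.inv_mem hx))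
    have h2 : u * (y⁻¹ * x⁻¹) * u⁻¹ = (u * y⁻¹ * u⁻¹) * (u * x⁻¹ * u⁻¹) := by group
    rw [h2, hud _ (H.inv_mem hy), hud _ (H.inv_mem hx)] at h1
    simpa using h1.symm
  have hcK : Nat.card K = 2 * Nat.card H + 1 := by
    have : 0 < Nat.card H := Nat.card_pos
    omega
  obtain ⟨F, i1, i2, hc, hF, hiso⟩ := psl2_core (G := G) (X := Ω) K H u a b hab.symm
    (z.K_comm j j.2 hj1 hj2) z.Kfix z.Ktrans
    (fun t ht h => z.Kfree t ht b hab.symm h) hHc
    (fun d hd => hd.1) (fun d hd => hd.2)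
    (fun d hd t ht => z.Knorm d hd.1 t ht)
    z.stab z.free hcK j j.2 (z.inverts j j.2 hj1 hj2) hua hub huu hud
    (fun y₁ y₂ h => hb.two hab h)
  exact ⟨F, i1, i2, by omega, hF, hiso⟩

end Cfsg.Agent.Lib.Helper19
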